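import Groth.Agent.RatGor.Vanish
import Groth.Agent.GRDual.Main
import Groth.Agent.GRDual.H1
import Groth.Agent.CurveDual.Coherent
import Groth.Agent.RefX.RankOne

/-!
# A line bundle with the direct image of the dualizing module is the dualizing module
-/

set_option autoImplicit false
set_option linter.style.haveILetI false
set_option linter.unusedSectionVars false
set_option backward.isDefEq.respectTransparency false
set_option backward.isDefEq.respectTransparency.types false
set_option maxHeartbeats 800000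

universe u

open CategoryTheory CategoryTheory.Limits AlgebraicGeometry TopologicalSpace IsLocalRing Opposite
open Pretriangulated
open CategoryTheory.Abelian (Ext)

attribute [local instance] HasDerivedCategory.standard

noncomputable section

namespace Groth.Agent.RatGor

open Groth.Agent

variable {A : Type u} [CommRing A] [IsDomain A] [IsLocalRing A] [IsNoetherianRing A] [IsIntegrallyClosed A]
  {X : Scheme.{u}} [IsIntegral X] (f : X ⟶ Spec (CommRingCat.of A)) [IsProper f]
  [PreservesFiniteLimits (tilde.functor (CommRingCat.of A))] [DCoh.HasRpush f]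
  (hdim : ringKrullDim A = 2)
  (hbir : ∃ U : (Spec (CommRingCat.of A)).Opens, (U : Set (Spec (CommRingCat.of A))).Nonempty ∧ IsIso (f ∣_ U))

include hdim hbir in
/-- Without first cohomology the derived direct image is the direct image. -/
theorem exists_pushIso (h : DCoh.RpushPreservesQCoh f) {F : X.Modules} (hF : Coh.IsQCoh F)
    (hH : Subsingleton (Coh.HH X F 1)) :
    Coh.IsQCoh ((Scheme.Modules.pushforward f).obj F) ∧
      Nonempty ((DCoh.Rpush f).obj (DCoh.inD X F) ≅ DCoh.inD _ ((Scheme.Modules.pushforward f).obj F)) := by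
  haveI := KFlatLib.hasInjectiveResolutions_modules (X := X)
  haveI := SpObjSS.enoughInjectives_of_hasInjectiveResolutions (C := X.Modules)
  haveI := QCoh.preservesFiniteLimits_push f
  let K := (DCoh.Rpush f).obj (DCoh.inD X F)
  let ρ : A →+* Coh.Γtop (Spec (CommRingCat.of A)) := (Scheme.ΓSpecIso (CommRingCat.of A)).inv.hom
  have hqD := KFlatLib.isQCohD_inD_of_isQCoh hF
  have hK : DCoh.IsQCohD K := h _ hqD
  obtain ⟨g0⟩ := KFlatLib.nonempty_hd_rpush_single f F 0
  obtain ⟨g1⟩ := KFlatLib.nonempty_hd_rpush_single f F 1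
  have hq0 : Coh.IsQCoh ((Scheme.Modules.pushforward f).obj F) :=
    KFlatLib.isQCoh_of_iso ((Scheme.Modules.pushforward f).rightDerivedZeroIsoSelf.app F) (QCoh.isQCoh_Rpush f hF 0)
  have hR1 : IsZero ((Coh.Rpush f 1).obj F) := by
    let R1 := (Coh.Rpush f 1).obj F
    obtain ⟨l⟩ := GRDual.nonempty_H1_equiv f ρ F (QCoh.subsingleton_HH_of_isAffine hq0 0)
      (QCoh.subsingleton_HH_of_isAffine hq0 1)
    haveI h0 : Subsingleton (Coh.HH (Spec (CommRingCat.of A)) R1 0) := l.toEquiv.subsingleton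
    haveI hΓ : Subsingleton Γ(R1, ⊤) :=
      ((Sheaf.H.equiv₀ (Coh.toAb R1) isTerminalTop).symm.toEquiv).subsingleton
    obtain ⟨N, ⟨e⟩⟩ := QCoh.isQCoh_spec_iff.1 (QCoh.isQCoh_Rpush f hF 1)
    haveI : Subsingleton Γ(tilde N, ⊤) :=
      ((ConcreteCategory.bijective_of_isIso (e.hom.app ⊤)).1).subsingleton
    haveI : Subsingleton N := @Equiv.subsingleton _ _ (tilde.isoTop N).toLinearEquiv.toEquiv ‹Subsingleton Γ(tilde N, ⊤)›
    exact ((tilde.functor _).map_isZero (ModuleCat.isZero_of_subsingleton N)).of_iso e.symm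
  haveI : DerivedCategory.IsLE K 1 := GRDual.isLE_rpush f hdim.le hbir hqD 0
  haveI : DerivedCategory.IsGE K 0 := KFlatLib.isGE_rpush f _ 0
  haveI : DerivedCategory.IsLE K 0 := (DerivedCategory.isLE_iff _ _).2 fun i hi => by
    by_cases h1 : i = 1
    · subst h1
      exact hR1.of_iso g1
    · exact DerivedCategory.isZero_of_isLE K 1 i (by omega)
  obtain ⟨V, ⟨e⟩⟩ := DerivedCategory.exists_iso_singleFunctor_obj_of_isGE_of_isLE K 0
  refine ⟨hq0, ⟨e ≪≫ (DerivedCategory.singleFunctor _ 0).mapIso ?_⟩⟩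
  exact ((DerivedCategory.homologyFunctor _ 0).mapIso e ≪≫ KFlatLib.hSingle 0 V).symm ≪≫ g0 ≪≫
    (Scheme.Modules.pushforward f).rightDerivedZeroIsoSelf.app F

variable (hXn : Pi1.IsNormalScheme X) (hH : Subsingleton (Coh.HH X (Coh.structureModule X) 1))
  {ωA : Type u} [AddCommGroup ωA] [Module A ωA] (hω : Dual.IsDualizing A (Dual.inD A ωA))
  (h : DCoh.RpushPreservesQCoh f) [DCoh.HasShriek f h] (WA : DCoh.DQCoh (Spec (CommRingCat.of A)))
  (eW : WA.obj ≅ (DCoh.tildeD (CommRingCat.of A)).obj (Dual.inD A ωA))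

include hdim hbir hXn hH hω eW in
/-- The trace computes classes in degree zero. -/
theorem bijective_beta_trace :
    Function.Bijective fun x : DCoh.inD X (Coh.structureModule X) ⟶ DCoh.dualizingCx f h WA =>
      GRDual.beta f x ≫ (ObjectProperty.ι DCoh.IsQCohD).map ((DCoh.trace f h).app WA) := by
  haveI := GRDual.isGE_K f hdim hbir hω h WA eW
  haveI := GRDual.isIso_eta f hdim hbir hXn hH
  have key : Function.Bijective ((fun y => GRDual.eta f ≫ y) ∘ GRDual.adjEquiv f h WA
      ⟨_, KFlatLib.isQCohD_inD_of_isQCoh (QCoh.isQCoh_structureModule (X := X))⟩) :=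
    (Iso.homFromEquiv (asIso (GRDual.eta f)).symm).bijective.comp (Equiv.bijective _)
  convert key using 1
  exact funext (GRDual.beta_trace f h WA)

include hdim hbir hXn hω eW in
/-- The dualizing module is coherent. -/
theorem isCoh_HD_dualizing [Module.Finite A ωA] : Coh.IsCoh (DCoh.HD (DCoh.dualizingCx f h WA) 0) := by
  haveI : IsNoetherianRing (CommRingCat.of A) := inferInstanceAs (IsNoetherianRing A)
  haveI : IsLocallyNoetherian X := LocallyOfFiniteType.isLocallyNoetherian f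
  haveI : CompactSpace X := QuasiCompact.compactSpace_of_compactSpace f
  haveI : IsNoetherian X := ⟨⟩
  let M := ModuleCat.of (CommRingCat.of A) ωA
  let W0 := (tilde.functor (CommRingCat.of A)).obj M
  let e : WA.obj ≅ DCoh.inD (Spec (CommRingCat.of A)) W0 :=
    eW ≪≫ ((tilde.functor (CommRingCat.of A)).mapDerivedCategorySingleFunctor 0).app M
  haveI : WA.obj.IsGE 0 := DerivedCategory.TStructure.t.isGE_of_iso e.symm 0
  have hK : DCoh.IsCohD WA.obj := fun j => by
    refine KFlatLib.isCoh_of_iso ((DerivedCategory.homologyFunctor _ j).mapIso e).symm ?_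
    by_cases hj : j = 0
    · subst hj
      haveI : Module.Finite (CommRingCat.of A) M := ‹Module.Finite A ωA›
      exact KFlatLib.isCoh_of_iso (KFlatLib.hSingle 0 _).symm
        ⟨QCoh.isQCoh_spec_iff.2 ⟨M, ⟨Iso.refl _⟩⟩, (QCoh.isFT_tilde_iff M).2 inferInstance⟩
    · exact KFlatLib.isCoh_of_isZero (KFlatLib.hd_single_isZero _ j hj)
  have hC := KExact.CohShriek.isCohD_shriek (𝟙 X) f (DCoh.shriekAdj f h) WA ⟨0, inferInstance⟩ hK 0
  exact KFlatLib.isCoh_of_local fun x => ⟨X, 𝟙 X, inferInstance, ⟨x, rfl⟩,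
    KFlatLib.isCoh_of_iso (KFlatLib.restrictHDIso (𝟙 X) _ 0) hC⟩

include hdim hbir hXn hH hω eW in
/-- A generated line bundle with affine generation loci and direct image `ω_A` is `ω_X`. -/
theorem nonempty_iso_dualizing [Module.Finite A ωA] {L : X.Modules} (hL : PicF.IsInvertible L)
    (hgg : Curv2.IsGloballyGenerated L)
    (θ : (DCoh.Rpush f).obj (DCoh.inD X L) ≅ WA.obj)
    {N : X.Modules} (hN : PicF.IsInvertible N) (eLN : (DCoh.tensorBi.obj L).obj N ≅ Coh.structureModule X)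
    {ι : Type u} (σ : ι → (N ⟶ Coh.structureModule X)) (Ω : ι → X.Opens) (hΩ : ∀ a, IsAffineOpen (Ω a))
    (hgen : ∀ z : X, ∃ a, Function.Surjective (st z (σ a)))
    (hloc : ∀ (a : ι) (z : X), Function.Surjective (st z (σ a)) → z ∈ Ω a) :
    Nonempty (L ≅ DCoh.HD (DCoh.dualizingCx f h WA) 0) := by
  haveI : HasExt.{u} X.Modules := IsGrothendieckAbelian.hasExt _
  haveI : IsDomain (CommRingCat.of A) := inferInstanceAs (IsDomain A)
  haveI : IsNoetherianRing (CommRingCat.of A) := inferInstanceAs (IsNoetherianRing A)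
  haveI : IsLocallyNoetherian X := LocallyOfFiniteType.isLocallyNoetherian f
  haveI : CompactSpace X := QuasiCompact.compactSpace_of_compactSpace f
  haveI : IsNoetherian X := ⟨⟩
  haveI := GRDual.isGE_K f hdim hbir hω h WA eW
  obtain ⟨U₀, hU₀, hiso₀⟩ := hbir
  haveI := hiso₀
  have hbir : ∃ U : (Spec (CommRingCat.of A)).Opens, (U : Set (Spec (CommRingCat.of A))).Nonempty ∧ IsIso (f ∣_ U) :=
    ⟨U₀, hU₀, hiso₀⟩
  have hd := RelPC17.BirFibre.fibre_dim_le_one f
    (RelPC17.BirFibre.dim_spec_le A 2 (by simpa using hdim.le)) U₀ hU₀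
  obtain ⟨B, ι₀, b₀, d₀, hT, hB⟩ := GRDual.exists_trunc (DCoh.dualizingCx f h WA)
  haveI := hB
  let H := DCoh.HD (DCoh.dualizingCx f h WA) 0
  let S := DerivedCategory.singleFunctor X.Modules 0
  have hHc : Coh.IsCoh H := isCoh_HD_dualizing f hdim hbir hXn hω h WA eW
  have hLc : Coh.IsCoh L := CurveDeg.isCoh_of_isInvertible hL
  have hlift : ∀ (M : X.Modules) (x : DCoh.inD X M ⟶ DCoh.dualizingCx f h WA),
      ∃ g : M ⟶ H, S.map g ≫ ι₀ = x := fun M x => by
    obtain ⟨y, hy⟩ := Triangle.coyoneda_exact₂ _ hT x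
      (DerivedCategory.TStructure.t.zero_of_isLE_of_isGE _ 0 1 (by omega) inferInstance hB)
    obtain ⟨g, hg⟩ := S.map_surjective y
    exact ⟨g, by rw [hg]; exact hy.symm⟩
  have hinj : ∀ (M : X.Modules) (g : M ⟶ H), S.map g ≫ ι₀ = 0 → g = 0 := fun M g hg => by
    refine S.map_injective ?_
    haveI : DerivedCategory.IsGE (Triangle.mk ι₀ b₀ d₀).invRotate.obj₁ 1 := by
      haveI := DerivedCategory.TStructure.t.isGE_shift B 1 (-1) 2 (by omega)
      exact DerivedCategory.TStructure.t.isGE_of_ge (B⟦(-1 : ℤ)⟧) 1 2 (by omega)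
    obtain ⟨z, hz⟩ := Triangle.coyoneda_exact₂ _ (inv_rot_of_distTriang _ hT) (S.map g) hg
    rw [hz, show z = 0 from DerivedCategory.TStructure.t.zero_of_isLE_of_isGE z 0 1 (by omega) inferInstance
      ‹_›, zero_comp, S.map_zero]
  let Lq : DCoh.DQCoh X := ⟨DCoh.inD X L, KFlatLib.isQCohD_inD_of_isQCoh hLc.1⟩
  let x₀ : DCoh.inD X L ⟶ DCoh.dualizingCx f h WA := (GRDual.adjEquiv f h WA Lq).symm θ.hom
  have hx₀ : GRDual.adjEquiv f h WA Lq x₀ = θ.hom := Equiv.apply_symm_apply _ _
  obtain ⟨μ, hμ⟩ := hlift L x₀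
  -- every section of `H` comes from `L`
  have hsec : ∀ v : Coh.structureModule X ⟶ H, ∃ u : Coh.structureModule X ⟶ L, u ≫ μ = v := by
    intro v
    let y := GRDual.beta f (S.map v ≫ ι₀) ≫ (ObjectProperty.ι DCoh.IsQCohD).map ((DCoh.trace f h).app WA)
    obtain ⟨z, hz⟩ := (GRDual.bijective_beta₀ f L).2 (y ≫ θ.inv)
    obtain ⟨u, rfl⟩ := S.map_surjective z
    refine ⟨u, sub_eq_zero.1 (hinj _ _ ?_)⟩
    rw [S.map_sub, Preadditive.sub_comp, sub_eq_zero, S.map_comp, Category.assoc, hμ]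
    refine (bijective_beta_trace f hdim hbir hXn hH hω h WA eW).1 ?_
    show GRDual.beta f (S.map u ≫ x₀) ≫ _ = y
    rw [GRDual.beta_comp, Category.assoc, ← GRDual.adjEquiv_trace f h WA Lq x₀, hx₀, hz, Category.assoc,
      Iso.inv_hom_id, Category.comp_id]
  -- the first cohomology of the image
  obtain ⟨ι', p, hp⟩ := hgg
  haveI := hp
  have hLH : Subsingleton (Coh.HH X L 1) :=
    RelPC17.DimOne.subsingleton_HH_one_of_epi f hd hH hLc.1 (p : (∐ fun _ : ι' => Coh.structureModule X) ⟶ L)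
  let π := cokernel.π μ
  let C := cokernel μ
  have hCq : Coh.IsQCoh C := QCoh.isQCoh_cokernel hLc.1 hHc.1 μ
  have hCc : Coh.IsCoh C := QCoh.isCoh_of_epi π hHc hCq
  haveI : Epi (Abelian.factorThruImage μ) := inferInstance
  have hI : Subsingleton (Coh.HH X (kernel π) 1) :=
    @Function.Surjective.subsingleton _ _ _ hLH
      (RelPC17.DimOne.hmap_surjective f hd (Abelian.factorThruImage μ) hLc.1 (QCoh.isQCoh_kernel hHc.1 hCq π))
  let Sh : ShortComplex X.Modules := ShortComplex.mk (kernel.ι π) π (kernel.condition π)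
  have hSh : Sh.ShortExact := { exact := ShortComplex.exact_of_f_is_kernel _ (kernelIsKernel π) }
  haveI hC0 : Subsingleton Γ(C, ⊤) := subsingleton_of_forall_eq 0 fun t => by
    obtain ⟨s, rfl⟩ := QCoh.app_top_surjective_of_HH_one hSh hI t
    obtain ⟨u, hu⟩ := hsec (InvX.ofSect (show Γ(H, ⊤) from s))
    have h1 : μ.app ⊤ (InvX.one u) = (show Γ(H, ⊤) from s) := by
      have h2 := congrArg InvX.one hu
      rw [InvX.one_ofSect] at h2
      exact h2
    show π.app ⊤ (show Γ(H, ⊤) from s) = 0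
    rw [← h1]
    exact congr(($(cokernel.condition μ)).app ⊤ (InvX.one u))
  -- extensions of `L` by `H`
  have hExt : Subsingleton (Ext.{u} L H 1) := by
    refine (Ext.homEquiv (X := L) (Y := H) (n := 1)).subsingleton_congr.2 ?_
    show Subsingleton (DCoh.inD X L ⟶ (DCoh.inD X H)⟦(1 : ℤ)⟧)
    refine subsingleton_of_forall_eq 0 fun x => ?_
    have hx : x ≫ ι₀⟦(1 : ℤ)⟧' = 0 := by
      let K := DCoh.dualizingCx f h WA
      let c := (shiftFunctorCompIsoId (DCoh.D X) (1 : ℤ) (-1) (by omega)).app K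
      let Ls : DCoh.DQCoh X := ⟨(DCoh.inD X L)⟦(-1 : ℤ)⟧, KFlatLib.isQCohD_shift Lq.property (-1)⟩
      obtain ⟨sh⟩ := Lib.DerivedProj.nonempty_rpush_shift f (-1 : ℤ)
      let s := sh.app (DCoh.inD X L)
      let y := GRDual.adjEquiv f h WA Ls ((x ≫ ι₀⟦(1 : ℤ)⟧')⟦(-1 : ℤ)⟧' ≫ c.hom)
      let u := (shiftFunctorCompIsoId (DCoh.D (Spec (CommRingCat.of A))) (-1 : ℤ) 1 (by omega)).app
        ((DCoh.Rpush f).obj (DCoh.inD X L))
      have hz : ∀ z : (DCoh.Rpush f).obj (DCoh.inD X L) ⟶ WA.obj⟦(1 : ℤ)⟧, z = 0 := fun z => by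
        let F := DCoh.tildeD (CommRingCat.of A)
        let cs := (F.commShiftIso (1 : ℤ)).app (Dual.inD A ωA)
        obtain ⟨φ, hφ⟩ := (KFlatLib.tildeD_map_bijective (R := CommRingCat.of A) (Dual.inD A ωA)
          ((Dual.inD A ωA)⟦(1 : ℤ)⟧)).2 (eW.inv ≫ θ.inv ≫ z ≫ eW.hom⟦(1 : ℤ)⟧' ≫ cs.inv)
        rw [(hω.ext_self_subsingleton 1 one_ne_zero).elim φ 0, F.map_zero] at hφ
        rw [← cancel_epi θ.inv, ← cancel_epi eW.inv, ← cancel_mono (eW.hom⟦(1 : ℤ)⟧' ≫ cs.inv), comp_zero,
          comp_zero, zero_comp]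
        simp only [Category.assoc]
        exact hφ.symm
      have hy : u.inv ≫ (s.inv ≫ y)⟦(1 : ℤ)⟧' = 0 := hz _
      have hy0 : y = 0 := by
        refine (cancel_epi s.inv).1 ((shiftFunctor (DCoh.D (Spec (CommRingCat.of A))) (1 : ℤ)).map_injective ?_)
        rw [comp_zero, Functor.map_zero, ← cancel_epi u.inv, comp_zero]
        exact hy
      haveI := KFlatLib.BCLoc.rpush_additive f
      have hx' : (x ≫ ι₀⟦(1 : ℤ)⟧')⟦(-1 : ℤ)⟧' ≫ c.hom = 0 := (GRDual.adjEquiv f h WA Ls).injective (hy0.trans (by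
        rw [GRDual.adjEquiv_trace, Functor.map_zero, zero_comp]))
      refine (shiftFunctor (DCoh.D X) (-1 : ℤ)).map_injective ((cancel_mono c.hom).1 ?_)
      rw [Functor.map_zero, zero_comp]
      exact hx'
    obtain ⟨g, hg⟩ := Triangle.coyoneda_exact₁ _ hT x hx
    rw [hg, show g = 0 from DerivedCategory.TStructure.t.zero_of_isLE_of_isGE g 0 1 (by omega) inferInstance hB,
      zero_comp]
  have hH1 := subsingleton_HH_one_of_ext hN hL H eLN hExt
  have hqN := (CurveDeg.isCoh_of_isInvertible hN).1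
  have hC1 : Subsingleton (Coh.HH X ((DCoh.tensorBi.obj N).obj C) 1) := by
    haveI := H26.IdealCl.isEquivalence_tensor hN
    exact @Function.Surjective.subsingleton _ _ _ hH1 (RelPC17.DimOne.hmap_surjective f hd
      ((DCoh.tensorBi.obj N).map π) (KFlatLib.isQCoh_tensor hqN hHc.1) (KFlatLib.isQCoh_tensor hqN hCq))
  haveI : Epi μ := Preadditive.epi_of_isZero_cokernel μ
    (isZero_of_twist f hd hN σ Ω hΩ hgen hloc C hCc hC0 hC1)
  have htf : ∀ x : X, Module.IsTorsionFree (X.presheaf.stalk x) (L.presheaf.stalk x) := fun x => by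
    obtain ⟨e⟩ := H23.InvStalk.exists_stalk_equiv hL x
    exact CAlgOdd.Refl.isTorsionFree_of_injective
      (M := ((DerSch.stalkFunctor X x).obj L : Type u)) e.toLinearMap e.injective
  -- `μ` is not zero at the generic point
  have hη : ¬ Subsingleton (H.presheaf.stalk (genericPoint X)) := by
    intro hsub
    let Z := CohB1.support H
    have hZ : IsClosed Z := QCoh.isClosed_support_of_isFT hHc.1 hHc.2
    obtain ⟨v, hv⟩ := hU₀
    have hgY : genericPoint (Spec (CommRingCat.of A)) ∈ U₀ :=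
      ((genericPoint_spec _).mem_open_set_iff U₀.2).2 (by rw [Set.univ_inter]; exact ⟨v, hv⟩)
    let O : (Spec (CommRingCat.of A)).Opens := ⟨(f '' Z)ᶜ, (f.isClosedMap _ hZ).isOpen_compl⟩
    have hO : genericPoint (Spec (CommRingCat.of A)) ∈ O := by
      rintro ⟨w, hw, hfw⟩
      obtain ⟨hgen', -⟩ := RatSing.birational_of_isIso f hbir
      have hη' : f (genericPoint X) ∈ U₀ := by rw [hgen']; exact hgY
      have hweq : w = genericPoint X := congrArg Subtype.val ((f ∣_ U₀).isEmbedding.injective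
        (a₁ := ⟨w, show f w ∈ U₀ from hfw ▸ hgY⟩) (a₂ := ⟨genericPoint X, hη'⟩)
        (Subtype.ext (by rw [morphismRestrict_base_coe, morphismRestrict_base_coe]; exact hfw.trans hgen'.symm)))
      exact hw (hweq ▸ hsub)
    obtain ⟨_, ⟨a, rfl⟩, hga, haO⟩ :=
      Opens.isBasis_iff_nbhd.1 (PrimeSpectrum.isBasis_basic_opens (R := CommRingCat.of A)) (U := O) hO
    have ha : a ≠ 0 := fun h0 => (h0 ▸ hga) (Submodule.zero_mem _)
    have hHH : Subsingleton (Coh.HH X H 1) := GRDual.subsingleton_H1 f hdim hbir hXn hω h WA eW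
    obtain ⟨hqH, ⟨eH⟩⟩ := exists_pushIso f hdim hbir h hHc.1 hHH
    let PH := (Scheme.Modules.pushforward f).obj H
    let V : (Spec (CommRingCat.of A)).Opens := PrimeSpectrum.basicOpen a
    have hz : IsZero (PH.restrict V.ι) := by
      refine (IsZero.iff_id_eq_zero _).2 (Scheme.Modules.hom_ext _ _ fun W => ?_)
      ext t
      refine ZClosLib.section_ext H (U := f ⁻¹ᵁ (V.ι ''ᵁ W)) _ _ fun y hy => ?_
      haveI : Subsingleton (H.presheaf.stalk y) := by
        by_contra hy'
        obtain ⟨w, -, hw⟩ := hy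
        exact haO (show f y ∈ V from hw ▸ w.2) ⟨y, hy', rfl⟩
      exact Subsingleton.elim _ _
    let M := ModuleCat.of (CommRingCat.of A) ωA
    let e : WA.obj ≅ DCoh.inD (Spec (CommRingCat.of A)) ((tilde.functor (CommRingCat.of A)).obj M) :=
      eW ≪≫ ((tilde.functor (CommRingCat.of A)).mapDerivedCategorySingleFunctor 0).app M
    have hid : S.map (𝟙 H) ≫ ι₀ = 0 := by
      refine (GRDual.adjEquiv f h WA ⟨_, KFlatLib.isQCohD_inD_of_isQCoh hHc.1⟩).injective ?_
      haveI := KFlatLib.BCLoc.rpush_additive f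
      rw [GRDual.adjEquiv_trace f h WA ⟨_, _⟩ (0 : DCoh.inD X H ⟶ DCoh.dualizingCx f h WA), Functor.map_zero, zero_comp]
      let y := GRDual.adjEquiv f h WA ⟨_, KFlatLib.isQCohD_inD_of_isQCoh hHc.1⟩ (S.map (𝟙 H) ≫ ι₀)
      show y = 0
      obtain ⟨g, hg⟩ := (DerivedCategory.singleFunctor (Spec (CommRingCat.of A)).Modules 0).map_surjective
        (eH.inv ≫ y ≫ e.hom)
      rw [GRDual.eq_zero_of_restrict hqH M (fun r m hr hm => GRDual.smul_eq_zero_omega hω r m hr hm) a ha hz g,
        Functor.map_zero] at hg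
      rw [← cancel_epi eH.inv, ← cancel_mono e.hom, comp_zero, zero_comp, Category.assoc]
      exact hg.symm
    have hH0 : IsZero H := (IsZero.iff_id_eq_zero H).2 (hinj H _ hid)
    have hμ0 : x₀ = 0 := by rw [← hμ, hH0.eq_of_tgt μ 0, S.map_zero, zero_comp]
    haveI := KFlatLib.BCLoc.rpush_additive f
    rw [hμ0, GRDual.adjEquiv_trace, Functor.map_zero, zero_comp] at hx₀
    have hW : IsZero WA.obj := (IsZero.iff_id_eq_zero _).2 (by rw [← θ.inv_hom_id, ← hx₀, comp_zero])
    have h0 : 𝟙 (Dual.inD A ωA) = 0 :=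
      (KFlatLib.tildeD_map_bijective (R := CommRingCat.of A) _ _).1 ((hW.of_iso eW.symm).eq_of_src _ _)
    refine one_ne_zero (hω.toEnd_bijective.1 (a₁ := (1 : A)) (a₂ := 0) ?_)
    show (1 : A) • 𝟙 (Dual.inD A ωA) = (0 : A) • 𝟙 _
    rw [one_smul, zero_smul, h0]
  haveI : IsIso μ := by
    refine ZClosLib.isIso_of_stalkMap_bijective μ fun x => ⟨?_, ?_⟩
    · refine (injective_iff_map_eq_zero (RefHull.stalkMapₗ μ x)).2 fun m hm => ?_
      by_contra hm0
      let sp := RefX.spM L (RefX.specializes_genericPoint x) m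
      have hsp : RefHull.stalkMapₗ μ (genericPoint X) sp = 0 := by
        rw [RefX.stalkMap_spM, hm, map_zero]
      have hsp0 : sp ≠ 0 := fun h0 => hm0 (by
        obtain ⟨W, hxW, t, rfl⟩ := TopCat.Presheaf.exists_germ_eq L.presheaf m
        have ht : t = 0 := RefX.germ_eq_zero_of_generic hLc htf t
          ((RefX.specializes_genericPoint x).mem_open W.2 hxW) (by rw [← RefX.spM_germ]; exact h0)
        rw [ht, map_zero])
      refine hη (subsingleton_of_forall_eq 0 fun y => ?_)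
      obtain ⟨w, rfl⟩ : ∃ w, RefHull.stalkMapₗ μ (genericPoint X) w = y :=
        (ModuleCat.epi_iff_surjective (st (genericPoint X) μ)).1 inferInstance y
      obtain ⟨e⟩ := H23.InvStalk.exists_stalk_equiv hL (genericPoint X)
      let es : L.presheaf.stalk (genericPoint X) ≃ₗ[X.presheaf.stalk (genericPoint X)] X.functionField := e
      have hes : es sp ≠ 0 := fun h0 => hsp0 (es.map_eq_zero_iff.1 h0)
      have hw : w = (es w * (es sp)⁻¹) • sp := es.injective (by
        rw [map_smul, smul_eq_mul, mul_assoc, inv_mul_cancel₀ hes, mul_one])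
      rw [hw, map_smul, hsp, smul_zero]
    · exact (ModuleCat.epi_iff_surjective (st x μ)).1 inferInstance
  exact ⟨asIso μ⟩

end Groth.Agent.RatGor
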