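import Groth.Agent.RatGor.Line

/-!
# Sections of the invertible ideal
-/

set_option autoImplicit false
set_option linter.style.haveILetI false
set_option linter.unusedSectionVars false
set_option backward.isDefEq.respectTransparency false
set_option backward.isDefEq.respectTransparency.types false
set_option maxHeartbeats 800000

universe u

open CategoryTheory CategoryTheory.Limits AlgebraicGeometry TopologicalSpace IsLocalRing Opposite

noncomputable section

namespace Groth.Agent.RatGor

open Groth.Agent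

variable {A : Type u} [CommRing A] [IsDomain A] [IsLocalRing A] [IsNoetherianRing A] [IsIntegrallyClosed A]
  {J : Ideal A} {X : Scheme.{u}} [IsIntegral X] (f : X ⟶ Spec (CommRingCat.of A)) [IsProper f]
  (hdim : ringKrullDim A = 2)
  (hbir : ∃ U : (Spec (CommRingCat.of A)).Opens, (U : Set (Spec (CommRingCat.of A))).Nonempty ∧ IsIso (f ∣_ U))

/-- The structure map of an inverse image open. -/
theorem strHom_preimage (V : (Spec (CommRingCat.of A)).Opens) (c : A) :
    BlowUpLib.strHom f (f ⁻¹ᵁ V) c =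
      f.app V ((Spec (CommRingCat.of A)).presheaf.map (homOfLE (le_top : V ≤ ⊤)).op
        ((Scheme.ΓSpecIso (CommRingCat.of A)).inv c)) := by
  show f.appLE ⊤ (f ⁻¹ᵁ V) le_top ((Scheme.ΓSpecIso (CommRingCat.of A)).inv c) = _
  rw [← CommRingCat.comp_apply ((Spec (CommRingCat.of A)).presheaf.map _) (f.app V), f.app_eq_appLE,
    Scheme.Hom.map_appLE]

include hbir hdim in
/-- Elements whose pullback lies in the ideal lie in it up to powers. -/
theorem exists_pow_mul_mem {x : A} (hx : x ∈ maximalIdeal A) (t : Γ(line J f, ⊤)) (c : A)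
    (hc : OmegaSh.idealSect (pullIdeal J f) ⊤ t = BlowUpLib.strHom f ⊤ c) : ∃ k : ℕ, x ^ k * c ∈ J := by
  by_cases hx0 : x = 0
  · exact ⟨1, by rw [hx0, pow_one, zero_mul]; exact zero_mem _⟩
  let V : (Spec (CommRingCat.of A)).Opens := PrimeSpectrum.basicOpen (show CommRingCat.of A from x)
  haveI := GRDual.isIso_restrict_punctured f hdim.le hbir (show CommRingCat.of A from x) hx0 hx
  have hV : IsAffineOpen V := IsAffineOpen.Spec_basicOpen (show CommRingCat.of A from x)
  let W : X.affineOpens := ⟨f ⁻¹ᵁ V,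
    haveI : IsAffine V.toScheme := hV
    IsAffine.of_isIso (f ∣_ V)⟩
  have hmem := OmegaLib.idealSect_mem (pullIdeal J f) W ((line J f).presheaf.map (homOfLE (le_top : W.1 ≤ ⊤)).op t)
  rw [OmegaLib.idealSect_map, hc, strHom_res, BlowUpLib.ideal_comap_centre] at hmem
  let ρ : A →+* Γ(Spec (CommRingCat.of A), V) :=
    ((Scheme.ΓSpecIso (CommRingCat.of A)).inv ≫
      (Spec (CommRingCat.of A)).presheaf.map (homOfLE (le_top : V ≤ ⊤)).op).hom
  have hstr : BlowUpLib.strHom f W.1 = (f.app V).hom.comp ρ := RingHom.ext fun a => strHom_preimage f V a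
  rw [hstr, ← Ideal.map_map, RingHom.comp_apply] at hmem
  obtain ⟨y, hy, hy'⟩ := (Ideal.mem_map_iff_of_surjective _ (GRDual.bijective_app f hbir V).2).1 hmem
  replace hy' := (GRDual.bijective_app f hbir V).1 hy'
  subst hy'
  letI : Algebra A Γ(Spec (CommRingCat.of A), V) :=
    show Algebra A ((Spec.structureSheaf A).obj.obj (op (PrimeSpectrum.basicOpen x))) from inferInstance
  haveI : IsLocalization.Away x Γ(Spec (CommRingCat.of A), V) := StructureSheaf.IsLocalization.to_basicOpen A x
  obtain ⟨⟨⟨j, hj⟩, ⟨_, k, rfl⟩⟩, h⟩ := (IsLocalization.mem_map_algebraMap_iff (Submonoid.powers x)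
    Γ(Spec (CommRingCat.of A), V) (I := J) (z := ρ c)).1 hy
  change algebraMap A Γ(Spec (CommRingCat.of A), V) c * algebraMap A _ (x ^ k) = algebraMap A _ j at h
  rw [← map_mul] at h
  obtain ⟨⟨_, l, rfl⟩, hl⟩ := (IsLocalization.eq_iff_exists (Submonoid.powers x) _).1 h
  refine ⟨k, ?_⟩
  have h2 : c * x ^ k = j := mul_left_cancel₀ (pow_ne_zero l hx0) hl
  rw [mul_comm, h2]
  exact hj

include hbir hdim in
/-- All sections come from the ideal. -/
theorem exists_eq_lineSect (hsat : ∀ c : A, (∀ x ∈ maximalIdeal A, ∃ k : ℕ, x ^ k * c ∈ J) → c ∈ J)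
    (t : Γ(line J f, ⊤)) : ∃ c : J, lineSect f c = t := by
  obtain ⟨y, hy⟩ := (GRDual.bijective_app f hbir ⊤).2
    (show Γ(X, f ⁻¹ᵁ ⊤) from OmegaSh.idealSect (pullIdeal J f) ⊤ t)
  obtain ⟨c, rfl⟩ := (ConcreteCategory.bijective_of_isIso (Scheme.ΓSpecIso (CommRingCat.of A)).inv).2 y
  have hc : OmegaSh.idealSect (pullIdeal J f) ⊤ t = BlowUpLib.strHom f ⊤ c := by
    refine hy.symm.trans ?_
    show _ = f.appLE ⊤ ⊤ le_top _
    rw [f.app_eq_appLE]
    rfl
  refine ⟨⟨c, hsat c fun x hx => exists_pow_mul_mem f hdim hbir hx t c hc⟩, ?_⟩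
  exact OmegaLib.idealSect_injective (pullIdeal J f) ⊤ (((exists_lineSect f _).choose_spec).trans hc.symm)

end Groth.Agent.RatGor
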