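import Groth.Agent.RatGor.Alg
import Groth.Agent.RatGor.Sections
import Groth.Agent.RatGor.Dual

/-!
# A Gorenstein normal modification of a rational surface singularity
-/

set_option autoImplicit false
set_option linter.style.haveILetI false
set_option linter.unusedSectionVars false
set_option backward.isDefEq.respectTransparency false
set_option backward.isDefEq.respectTransparency.types false
set_option maxHeartbeats 800000

universe u

open CategoryTheory CategoryTheory.Limits AlgebraicGeometry TopologicalSpace IsLocalRing Opposite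

attribute [local instance] HasDerivedCategory.standard

noncomputable section

namespace Groth.Agent.RatGor

open Groth.Agent

variable {A : Type u} [CommRing A]

theorem nonempty_tilde_iso {R : CommRingCat.{u}} (M : (Spec R).Modules) (hq : M.IsQuasicoherent) (P : ModuleCat.{u} R)
    (e : P ≅ (moduleSpecΓFunctor (R := R)).obj M) : Nonempty ((tilde.functor R).obj P ≅ M) :=
  haveI : IsIso M.fromTildeΓ := (isQuasicoherent_iff_isIso_fromTildeΓ M).1 hq
  ⟨(tilde.functor R).mapIso e ≪≫ asIso M.fromTildeΓ⟩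

/-- The elements of the ideal give a linear bijection onto the sections of the direct image. -/
theorem nonempty_sectEquiv {J : Ideal A} {X : Scheme.{u}} (f : X ⟶ Spec (CommRingCat.of A)) {ω : Type u}
    [AddCommGroup ω] [Module A ω] (ψ : ω ≃ₗ[A] J) (hsurj : ∀ t : Γ(line J f, ⊤), ∃ c : J, lineSect f c = t)
    (hinj : Function.Injective (BlowUpLib.strHom f ⊤)) :
    Nonempty (ModuleCat.of (CommRingCat.of A) ω ≅
      (moduleSpecΓFunctor (R := CommRingCat.of A)).obj ((Scheme.Modules.pushforward f).obj (line J f))) := by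
  let P := (moduleSpecΓFunctor (R := CommRingCat.of A)).obj ((Scheme.Modules.pushforward f).obj (line J f))
  let s : ω → P := fun m => (show Γ(line J f, f ⁻¹ᵁ ⊤) from lineSect f (ψ m))
  have key : ∀ m, OmegaSh.idealSect (pullIdeal J f) ⊤ (lineSect f (ψ m)) = BlowUpLib.strHom f ⊤ ((ψ m : A)) :=
    fun m => (exists_lineSect f (ψ m)).choose_spec
  let l : ω →ₗ[CommRingCat.of A] P :=
    { toFun := s
      map_add' := fun m m' => OmegaLib.idealSect_injective (pullIdeal J f) ⊤ (by
        show OmegaSh.idealSect (pullIdeal J f) ⊤ (lineSect f (ψ (m + m'))) =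
          OmegaSh.idealSect (pullIdeal J f) ⊤ (lineSect f (ψ m) + lineSect f (ψ m'))
        rw [map_add (OmegaSh.idealSect (pullIdeal J f) ⊤), key, key, key, map_add ψ, Submodule.coe_add,
          map_add (BlowUpLib.strHom f ⊤)])
      map_smul' := fun r m => OmegaLib.idealSect_injective (pullIdeal J f) ⊤ (by
        show OmegaSh.idealSect (pullIdeal J f) ⊤ (lineSect f (ψ ((show A from r) • m))) =
          OmegaSh.idealSect (pullIdeal J f) ⊤
            ((show Γ(X, ⊤) from f.app ⊤ ((Scheme.ΓSpecIso (CommRingCat.of A)).inv r)) • lineSect f (ψ m))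
        rw [OmegaLib.idealSect_smul, key, key, map_smul ψ, Submodule.coe_smul, smul_eq_mul, map_mul]
        refine congrArg (· * BlowUpLib.strHom f ⊤ ((ψ m : A))) ?_
        show f.appLE ⊤ ⊤ le_top _ = _
        rw [f.app_eq_appLE]
        rfl) }
  refine ⟨(LinearEquiv.ofBijective l ⟨fun m m' hmm => ψ.injective (Subtype.ext (hinj ?_)), fun t => ?_⟩).toModuleIso⟩
  · rw [← key, ← key]
    exact congrArg (OmegaSh.idealSect (pullIdeal J f) ⊤) (show lineSect f (ψ m) = lineSect f (ψ m') from hmm)
  · obtain ⟨c, hc⟩ := hsurj (show Γ(line J f, f ⁻¹ᵁ ⊤) from t)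
    exact ⟨ψ.symm c, by show lineSect f (ψ (ψ.symm c)) = _; rw [ψ.apply_symm_apply]; exact hc⟩

variable [IsDomain A] [IsLocalRing A] [IsNoetherianRing A] [IsIntegrallyClosed A]

/-- The normalized blow-up of the dualizing ideal is a Gorenstein modification. -/
theorem exists_gorenstein_modification (hN : CAlg.IsNagata A) (hdim : ringKrullDim A = 2) (hA : Curv2.IsRationalSing A)
    (ωA : Type u) [AddCommGroup ωA] [Module A ωA] (hω : Dual.IsDualizing A (Dual.inD A ωA))
    [PreservesFiniteLimits (tilde.functor (CommRingCat.of A))] :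
    ∃ (X : Scheme.{u}) (f : X ⟶ Spec (CommRingCat.of A)), IsProper f ∧ IsIntegral X ∧ Pi1.IsNormalScheme X ∧
      (∃ U : (Spec (CommRingCat.of A)).Opens, (U : Set (Spec (CommRingCat.of A))).Nonempty ∧ IsIso (f ∣_ U)) ∧
      ∀ [DCoh.HasRpush f] (h : DCoh.RpushPreservesQCoh f) [DCoh.HasShriek f h]
        (WA : DCoh.DQCoh (Spec (CommRingCat.of A))),
        Nonempty (WA.obj ≅ (DCoh.tildeD (CommRingCat.of A)).obj (Dual.inD A ωA)) →
        PicF.IsInvertible (DCoh.dualizingMod f h WA 0) := by
  obtain ⟨hfin, -, φ, hφ, hφ0⟩ := exists_embedding hω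
  haveI := hfin
  let J : Ideal A := LinearMap.range φ
  let ψ : ωA ≃ₗ[A] J := LinearEquiv.ofInjective φ hφ
  obtain ⟨a, haJ, ha⟩ : ∃ a ∈ J, a ≠ (0 : A) := Submodule.exists_mem_ne_zero_of_ne_bot
    (fun hb => hφ0 (LinearMap.range_eq_bot.1 hb))
  obtain ⟨X, f, hint, hprop, hXn, hbir, ⟨hch⟩⟩ := exists_charts hN J a haJ ha
  haveI := hint
  haveI := hprop
  refine ⟨X, f, hprop, hint, hXn, hbir, ?_⟩
  intro _ h _ WA hWA
  obtain ⟨eW⟩ := hWA
  haveI : IsDomain (CommRingCat.of A) := inferInstanceAs (IsDomain A)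
  haveI : IsNoetherianRing (CommRingCat.of A) := inferInstanceAs (IsNoetherianRing A)
  have hH := hA X f inferInstance inferInstance hXn hbir
  have hL : PicF.IsInvertible (line J f) := H26.IdealCl.isInvertible_idealMod hch.cartier
  have hgg : Curv2.IsGloballyGenerated (line J f) :=
    RatSing.isGloballyGenerated_centre J f _ (fun V => BlowUpLib.ideal_comap_centre J f V)
  have hLH : Subsingleton (Coh.HH X (line J f) 1) := by
    obtain ⟨U, hU, hiso⟩ := hbir
    haveI := hiso
    obtain ⟨ι', p, hp⟩ := hgg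
    haveI := hp
    exact RelPC17.DimOne.subsingleton_HH_one_of_epi f (RelPC17.BirFibre.fibre_dim_le_one f
      (RelPC17.BirFibre.dim_spec_le A 2 (by simpa using hdim.le)) U hU) hH (PPSheaf.isQCoh_idealMod _)
      (p : (∐ fun _ : ι' => Coh.structureModule X) ⟶ line J f)
  obtain ⟨hq, ⟨eR⟩⟩ := exists_pushIso f hdim hbir h (PPSheaf.isQCoh_idealMod (pullIdeal J f)) hLH
  have hinj : Function.Injective (BlowUpLib.strHom f ⊤) := fun x y hxy => by
    have h1 : f.app ⊤ ((Scheme.ΓSpecIso (CommRingCat.of A)).inv x) =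
        f.app ⊤ ((Scheme.ΓSpecIso (CommRingCat.of A)).inv y) := by
      rw [f.app_eq_appLE]
      exact hxy
    exact (ConcreteCategory.bijective_of_isIso (Scheme.ΓSpecIso (CommRingCat.of A)).inv).1
      ((GRDual.bijective_app f hbir ⊤).1 h1)
  obtain ⟨eM⟩ := nonempty_sectEquiv f ψ
    (exists_eq_lineSect f hdim hbir fun c hc => mem_range_of_forall_pow hω hdim φ hc) hinj
  obtain ⟨α⟩ := nonempty_tilde_iso (R := CommRingCat.of A) ((Scheme.Modules.pushforward f).obj (line J f)) hq
    (ModuleCat.of (CommRingCat.of A) ωA) eM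
  let θ : (DCoh.Rpush f).obj (DCoh.inD X (line J f)) ≅ WA.obj :=
    eR ≪≫ (DerivedCategory.singleFunctor _ 0).mapIso α.symm ≪≫
      (((tilde.functor (CommRingCat.of A)).mapDerivedCategorySingleFunctor 0).app
        (ModuleCat.of (CommRingCat.of A) ωA)).symm ≪≫ eW.symm
  obtain ⟨N, hNinv, ⟨eLN⟩⟩ := H23.PicInv.exists_inverse hL
  obtain ⟨c⟩ := H23.PicMul.comm N (line J f)
  let e : (DCoh.tensorBi.obj N).obj (line J f) ≅ Coh.structureModule X := c ≪≫ eLN
  obtain ⟨i⟩ := nonempty_iso_dualizing f hdim hbir hXn hH hω h WA eW hL hgg θ hNinv eLN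
    (fun a : J => sigmaMap f e a) hch.locus hch.affine
    (fun z => (exists_st_surjective f hch z).imp fun a => (sigmaMap_surjective_iff f hNinv e a z).2)
    (fun a z hs => mem_locus_of_surjective f hch a z ((sigmaMap_surjective_iff f hNinv e a z).1 hs))
  show PicF.IsInvertible (DCoh.HD (DCoh.dualizingCx f h WA) (-((0 : ℕ) : ℤ)))
  rw [Nat.cast_zero, neg_zero]
  exact H23.PicMul.isInvertible_of_iso i hL

end Groth.Agent.RatGor
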