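import Groth.Agent.GRDual.Core
import Groth.Agent.KExact.DualizingS2
import Groth.Agent.CAlgMisc.TorsionFree
import Mathlib.Algebra.Homology.DerivedCategory.Ext.ExactSequences

/-!
# The dualizing module of a normal surface singularity as an ideal
-/

set_option autoImplicit false
set_option linter.style.haveILetI false
set_option linter.unusedSectionVars false
set_option backward.isDefEq.respectTransparency false
set_option backward.isDefEq.respectTransparency.types false
set_option maxHeartbeats 800000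

universe u

open CategoryTheory CategoryTheory.Limits IsLocalRing
open CategoryTheory.Abelian (Ext)

attribute [local instance] HasDerivedCategory.standard

noncomputable section

namespace Groth.Agent.RatGor

open Groth.Agent

variable {A : Type u} [CommRing A] [IsDomain A] [IsLocalRing A] [IsNoetherianRing A]
  {ω : Type u} [AddCommGroup ω] [Module A ω] (hω : Dual.IsDualizing A (Dual.inD A ω))

include hω in
/-- A dualizing module over a domain is finite, torsion free and embeds in the ring. -/
theorem exists_embedding : Module.Finite A ω ∧ (∀ (r : A) (m : ω), r ≠ 0 → r • m = 0 → m = 0) ∧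
    ∃ φ : ω →ₗ[A] A, Function.Injective φ ∧ φ ≠ 0 := by
  obtain ⟨-, hT⟩ := KExact.bottom_hasSk_two_and_torsionFree hω 0
  let l := (KFlatLib.hSingle 0 (ModuleCat.of A ω)).toLinearEquiv
  haveI hfin : Module.Finite A ω := by
    haveI := hω.finite_cohomology 0
    exact Module.Finite.equiv l
  have htf : ∀ (r : A) (m : ω), r ≠ 0 → r • m = 0 → m = 0 := fun r m hr hm =>
    l.symm.injective ((hT inferInstance r (l.symm m) hr (by rw [← map_smul, hm, map_zero])).trans (map_zero _).symm)
  refine ⟨hfin, htf, ?_⟩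
  haveI : Module.IsTorsionFree A ω := Module.isTorsionFree_iff_smul_eq_zero.2 fun r m h => by
    by_cases hr : r = 0
    · exact Or.inl hr
    · exact Or.inr (htf r m hr h)
  obtain ⟨n, g, hg⟩ := CAlgMisc.exists_injective_free A ω
  let F := DerivedCategory.singleFunctor (ModuleCat.{u} A) 0
  have hend : ∀ e : ω →ₗ[A] ω, ∃ c : A, ∀ m, e m = c • m := fun e => by
    obtain ⟨c, hc⟩ := hω.toEnd_bijective.2 (F.map (ModuleCat.ofHom e) : Dual.inD A ω ⟶ Dual.inD A ω)
    refine ⟨c, fun m => ?_⟩
    have h : F.map (c • 𝟙 (ModuleCat.of A ω)) = F.map (ModuleCat.ofHom e) := by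
      rw [F.map_smul, F.map_id]
      exact hc
    exact (LinearMap.congr_fun (congrArg ModuleCat.Hom.hom (F.map_injective h)) m).symm
  have hne : ∃ m : ω, m ≠ 0 := by
    by_contra! h
    have h0 : (0 : ω →ₗ[A] ω) = LinearMap.id := LinearMap.ext fun m => (h m).symm ▸ rfl
    refine one_ne_zero (hω.toEnd_bijective.1 (a₁ := (1 : A)) (a₂ := 0) ?_)
    show (1 : A) • 𝟙 (F.obj (ModuleCat.of A ω)) = (0 : A) • 𝟙 _
    rw [one_smul, zero_smul, ← F.map_id, show 𝟙 (ModuleCat.of A ω) = 0 from ModuleCat.hom_ext h0.symm, F.map_zero]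
  obtain ⟨m₀, hm₀⟩ := hne
  obtain ⟨i, hi⟩ : ∃ i, g m₀ i ≠ 0 := by
    by_contra! h
    exact hm₀ (hg ((funext h).trans (map_zero g).symm))
  let φ : ω →ₗ[A] A := LinearMap.proj i ∘ₗ g
  refine ⟨φ, (injective_iff_map_eq_zero φ).2 fun z hz => ?_, fun h => hi (LinearMap.congr_fun h m₀)⟩
  obtain ⟨c, hc⟩ := hend ((LinearMap.toSpanSingleton A ω m₀).comp φ)
  have h1 : φ m₀ • m₀ = c • m₀ := hc m₀
  have h2 : φ z • m₀ = c • z := hc z
  have hc0 : c = φ m₀ := sub_eq_zero.1 ((smul_eq_zero.1 (show (c - φ m₀) • m₀ = 0 by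
    rw [sub_smul, h1, sub_self])).resolve_right hm₀)
  rw [hz, zero_smul, hc0] at h2
  exact htf _ z hi h2.symm

include hω in
/-- Extensions of the residue field by the dualizing module are trivial. -/
theorem subsingleton_ext_residue (hdim : ringKrullDim A = 2) :
    Subsingleton (Ext.{u} (ModuleCat.of A (A ⧸ maximalIdeal A)) (ModuleCat.of A ω) 1) := by
  obtain ⟨-, hn⟩ := GRDual.exists_normalized_two hdim ω hω
  let c := (shiftFunctorAdd' (Dual.D A) (2 : ℤ) (-1) 1 (by omega)).app (Dual.inD A ω)
  haveI h1 : Subsingleton (Dual.inD A (ResidueField A) ⟶ (Dual.inD A ω)⟦(1 : ℤ)⟧) :=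
    @Equiv.subsingleton _ _ c.homToEquiv (hn (-1) (by omega))
  exact (Ext.homEquiv (X := ModuleCat.of A (A ⧸ maximalIdeal A)) (Y := ModuleCat.of A ω) (n := 1)).subsingleton_congr.2 h1

include hω in
/-- The image of the dualizing module in the ring is saturated. -/
theorem mem_range_of_forall_pow (hdim : ringKrullDim A = 2) (φ : ω →ₗ[A] A) {c : A}
    (hc : ∀ x ∈ maximalIdeal A, ∃ k : ℕ, x ^ k * c ∈ LinearMap.range φ) : c ∈ LinearMap.range φ := by
  have hbase : ∀ (hinj : Function.Injective φ) (c : A), (∀ x ∈ maximalIdeal A, x * c ∈ LinearMap.range φ) →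
      c ∈ LinearMap.range φ := by
    intro hinj c hc
    let m := maximalIdeal A
    choose ψ hψ using fun x : m => hc x.1 x.2
    let ψ' : m →ₗ[A] ω :=
      { toFun := ψ
        map_add' := fun x y => hinj (by simp [hψ, add_mul])
        map_smul' := fun r x => hinj (by simp [hψ, mul_assoc]) }
    obtain ⟨w, hS⟩ := KFlatLib.exists_ses_of_exact (Submodule.injective_subtype m) (Submodule.mkQ_surjective m)
      (LinearMap.exact_iff.2 (by rw [Submodule.ker_mkQ, Submodule.range_subtype]))
    haveI := subsingleton_ext_residue hω hdim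
    obtain ⟨e, he⟩ := Ext.contravariant_sequence_exact₁ hS (ModuleCat.of A ω) (Ext.mk₀ (ModuleCat.ofHom ψ'))
      (by omega : 1 + 0 = 1) (Subsingleton.elim (α := Ext.{u} (ModuleCat.of A (A ⧸ m)) (ModuleCat.of A ω) 1) _ _)
    obtain ⟨g, rfl⟩ := (Ext.mk₀_bijective _ _).2 e
    rw [Ext.mk₀_comp_mk₀] at he
    replace he := (Ext.mk₀_bijective _ _).1 he
    obtain ⟨b, hb, hb0⟩ := Submodule.exists_mem_ne_zero_of_ne_bot (p := m) fun h => by
      rw [ringKrullDim_eq_zero_of_isField (isField_iff_maximalIdeal_eq.2 h)] at hdim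
      exact absurd hdim (by decide)
    refine ⟨g.hom 1, mul_left_cancel₀ hb0 ?_⟩
    have h3 : g.hom b = ψ' ⟨b, hb⟩ := LinearMap.congr_fun (congrArg ModuleCat.Hom.hom he) ⟨b, hb⟩
    calc b * φ (g.hom 1) = φ (g.hom (b • (1 : A))) := by rw [map_smul, map_smul, smul_eq_mul]
      _ = φ (ψ' ⟨b, hb⟩) := by rw [smul_eq_mul, mul_one, h3]
      _ = b * c := hψ ⟨b, hb⟩
  by_cases hinj : Function.Injective φ
  swap
  · obtain ⟨-, htf, ψ, hψ, -⟩ := exists_embedding hω
    have h0 : φ = 0 := by
      by_contra h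
      refine hinj ((injective_iff_map_eq_zero φ).2 fun z hz => ?_)
      obtain ⟨m₀, hm₀⟩ : ∃ m₀, φ m₀ ≠ 0 := by
        by_contra! h'
        exact h (LinearMap.ext h')
      by_contra hz0
      have h1 : φ (ψ z • m₀) = φ (ψ m₀ • z) :=
        congrArg φ (hψ (by rw [map_smul, map_smul, smul_eq_mul, smul_eq_mul, mul_comm]))
      rw [map_smul, map_smul, hz, smul_zero, smul_eq_mul, mul_eq_zero] at h1
      exact hz0 (hψ ((h1.resolve_right hm₀).trans (map_zero ψ).symm))
    obtain ⟨b, hb, hb0⟩ := Submodule.exists_mem_ne_zero_of_ne_bot (p := maximalIdeal A) fun h => by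
      rw [ringKrullDim_eq_zero_of_isField (isField_iff_maximalIdeal_eq.2 h)] at hdim
      exact absurd hdim (by decide)
    obtain ⟨k, m, hm⟩ := hc b hb
    rw [h0, LinearMap.zero_apply] at hm
    rw [(mul_eq_zero.1 hm.symm).resolve_left (pow_ne_zero k hb0)]
    exact zero_mem _
  let I : Ideal A :=
    { carrier := {x | x * c ∈ LinearMap.range φ}
      add_mem' := fun {x y} hx hy => by
        show (x + y) * c ∈ LinearMap.range φ
        rw [add_mul]; exact add_mem hx hy
      zero_mem' := by
        show 0 * c ∈ LinearMap.range φ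
        rw [zero_mul]; exact zero_mem _
      smul_mem' := fun r x hx => by
        show r * x * c ∈ LinearMap.range φ
        rw [mul_assoc]; exact Submodule.smul_mem _ r hx }
  obtain ⟨n, hn⟩ := Ideal.exists_pow_le_of_le_radical_of_fg (I := maximalIdeal A) (J := I)
    (fun x hx => hc x hx) (IsNoetherian.noetherian _)
  clear hc
  induction n generalizing c with
  | zero =>
    have h : (1 : A) * c ∈ LinearMap.range φ := hn (by simp)
    rwa [one_mul] at h
  | succ n ih =>
    refine hbase hinj c fun b hb => ih fun x hx => ?_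
    show x * (b * c) ∈ LinearMap.range φ
    rw [← mul_assoc]
    exact hn (by rw [pow_succ]; exact Ideal.mul_mem_mul hx hb)

end Groth.Agent.RatGor
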