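import Groth.Agent.RatGor.Vanish
import Groth.Agent.NormSeq.Step
import Groth.Agent.RatSing.Fibre
import Groth.Agent.GRDual.Bridge
import Groth.Agent.CAlgOdd.NagataFT.Basic
import Groth.Agent.NormCurve.Delta

/-!
# The normalized blow-up of an ideal
-/

set_option autoImplicit false
set_option linter.style.haveILetI false
set_option linter.unusedSectionVars false
set_option backward.isDefEq.respectTransparency false
set_option backward.isDefEq.respectTransparency.types false
set_option maxHeartbeats 800000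

universe u

open CategoryTheory CategoryTheory.Limits AlgebraicGeometry TopologicalSpace IsLocalRing Opposite
open scoped TensorProduct

noncomputable section

namespace Groth.Agent.RatGor

open Groth.Agent

variable {A : Type u} [CommRing A]

/-- An ideal sheaf made invertible, together with affine loci where single elements generate it. -/
structure Charts (J : Ideal A) {X : Scheme.{u}} (f : X ⟶ Spec (CommRingCat.of A)) where
  cartier : BlowUp.IsEffCartierIdeal ((BlowUpLib.centre J).comap f)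
  locus : J → X.Opens
  affine : ∀ a, IsAffineOpen (locus a)
  mem : ∀ (a : J) (W : X.affineOpens) (z : X), z ∈ W.1 →
    ((BlowUpLib.centre J).comap f).ideal W = Ideal.span {BlowUpLib.strHom f W.1 a} → z ∈ locus a

/-- The points of the centre contain the ideal. -/
theorem mem_support_centre_le (J : Ideal A) (t : Spec (CommRingCat.of A))
    (h : t ∈ ((BlowUpLib.centre J).support : Set (Spec (CommRingCat.of A)))) : J ≤ (t : PrimeSpectrum A).asIdeal := by
  rw [show ((BlowUpLib.centre J).support : Set ↥(Spec (CommRingCat.of A))) = _ from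
      Scheme.IdealSheafData.coe_support_ofIdealTop _, Spec_zeroLocus] at h
  intro a ha
  exact (PrimeSpectrum.mem_zeroLocus t _).1 h (Ideal.mem_map_of_mem _ ha)

/-- The normalized blow-up of a nonzero ideal of a Nagata normal domain. -/
theorem exists_charts [IsDomain A] [IsNoetherianRing A] [IsIntegrallyClosed A] (hN : CAlg.IsNagata A) (J : Ideal A)
    (a : A) (haJ : a ∈ J) (ha : a ≠ 0) :
    ∃ (X : Scheme.{u}) (f : X ⟶ Spec (CommRingCat.of A)) (_ : IsIntegral X), IsProper f ∧ Pi1.IsNormalScheme X ∧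
      (∃ U : (Spec (CommRingCat.of A)).Opens, (U : Set (Spec (CommRingCat.of A))).Nonempty ∧ IsIso (f ∣_ U)) ∧
      Nonempty (Charts J f) := by
  haveI : IsDomain (CommRingCat.of A) := inferInstanceAs (IsDomain A)
  haveI : IsNoetherianRing (CommRingCat.of A) := inferInstanceAs (IsNoetherianRing A)
  let S := Spec (CommRingCat.of A)
  let b := BlowUpLib.toBase J
  let Y := BlowUpLib.localBlowUp J
  have hb : BlowUp.IsBlowUp b (BlowUpLib.centre J) := BlowUpLib.isBlowUp_local J
  haveI : IsProper b := BlowUpLib.isProper_of_isBlowUp (C := BlowUpLib.centre J) hb fun V => by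
    haveI : IsNoetherianRing Γ(S, V.1) := IsLocallyNoetherian.component_noetherian V
    exact IsNoetherian.noetherian _
  let D : S.Opens := PrimeSpectrum.basicOpen (show CommRingCat.of A from a)
  have hDne : (D : Set S).Nonempty := ⟨⟨⊥, Ideal.isPrime_bot⟩, fun h => ha ((Submodule.mem_bot A).1 h)⟩
  have hDint : D ≤ ModPair.interior (BlowUpLib.centre J) := fun t ht h =>
    ht (show a ∈ (t : PrimeSpectrum A).asIdeal from (mem_support_centre_le J t h) haJ)
  haveI hisoD : IsIso (b ∣_ D) := BlowUpLib.isIso_restrict hb D hDint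
  obtain ⟨hint, -, hbgen⟩ :
      ∃ _ : IsIntegral Y, b (genericPoint Y) = genericPoint S ∧ IsIso (b.stalkMap (genericPoint Y)) := by
    refine (Lib.BlowUpInt.isEmpty_or_birational hb).resolve_left fun hE => ?_
    obtain ⟨v, hv⟩ := hDne
    exact hE.false ((inv (b ∣_ D)) ⟨v, hv⟩).1
  haveI := hint
  haveI : IsLocallyNoetherian Y := LocallyOfFiniteType.isLocallyNoetherian b
  have hNY : ∀ U : Y.affineOpens, CAlg.IsNagata Γ(Y, U.1) := fun U =>
    AlgSpDec.NagataLocal.isNagata_affineOpen b (fun _ : PUnit.{1} => (⊤ : S.Opens)) (by simp)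
      (fun _ => isAffineOpen_top S)
      (fun _ => CAlgOdd.NagataFT.isNagata_of_ringEquiv (Scheme.ΓSpecIso (CommRingCat.of A)).commRingCatIsoToRingEquiv.symm hN)
      U.1 U.2
  haveI : IsFinite (Curv2.normalizationι Y) := NormCurve.isFinite_normalizationι Y hNY
  let X := Curv2.normalization Y
  let ν := Curv2.normalizationι Y
  haveI hint₁ : IsIntegral X :=
    inferInstanceAs (IsIntegral (Y.fromSpecStalk (genericPoint Y)).normalization)
  have hnorm := NormCurve.isNormalScheme_normalization Y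
  obtain ⟨V, hV, hisoV⟩ := BMLib.exists_isIso_normalizationι Y
  haveI := hisoV
  haveI : IsOpenImmersion ((ν ⁻¹ᵁ V).ι ≫ ν) := by
    rw [← morphismRestrict_ι]; infer_instance
  have hW : ((ν ⁻¹ᵁ V) : Set X).Nonempty := by
    obtain ⟨v, hv⟩ := hV
    exact ⟨(inv (ν ∣_ V) ⟨v, hv⟩).1, (inv (ν ∣_ V) ⟨v, hv⟩).2⟩
  have hν : IsIso (ν.stalkMap (genericPoint X)) :=
    PurBir.isIso_stalkMap_of_mem ν (PurBir.genericPoint_mem hW)
  haveI : IsLocallyNoetherian X := LocallyOfFiniteType.isLocallyNoetherian (ν ≫ b)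
  let i := inv (b ∣_ D)
  let U : S.Opens := D.ι ''ᵁ (i ⁻¹ᵁ ((b ⁻¹ᵁ D).ι ⁻¹ᵁ V))
  have hUD : U ≤ D := fun t ht => by
    obtain ⟨w, -, rfl⟩ := ht
    exact w.2
  have hUne : (U : Set S).Nonempty := by
    have h1 : genericPoint Y ∈ b ⁻¹ᵁ D := by
      refine ((genericPoint_spec Y).mem_open_set_iff (b ⁻¹ᵁ D).2).2 ?_
      obtain ⟨v, hv⟩ := hDne
      rw [Set.univ_inter]
      exact (⟨_, (i ⟨v, hv⟩).2⟩ : ((b ⁻¹ᵁ D : Y.Opens) : Set Y).Nonempty)
    have h2 : genericPoint Y ∈ V := ((genericPoint_spec Y).mem_open_set_iff V.2).2 (by simpa using hV)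
    refine ⟨D.ι ((b ∣_ D) ⟨_, h1⟩), ⟨_, ?_, rfl⟩⟩
    show (b ⁻¹ᵁ D).ι (i ((b ∣_ D) ⟨_, h1⟩)) ∈ V
    rw [← Scheme.Hom.comp_apply (b ∣_ D) i, IsIso.hom_inv_id]
    exact h2
  have hbU : b ⁻¹ᵁ U ≤ V := fun y hy => by
    obtain ⟨w, hw, hwy⟩ := hy
    have hyD : y ∈ b ⁻¹ᵁ D := by
      show b y ∈ D
      rw [← hwy]
      exact w.2
    have hw' : (b ∣_ D) ⟨y, hyD⟩ = w := Subtype.ext (by rw [morphismRestrict_base_coe]; exact hwy.symm)
    have h3 : (b ⁻¹ᵁ D).ι (i w) ∈ V := hw
    rw [← hw', ← Scheme.Hom.comp_apply (b ∣_ D) i, IsIso.hom_inv_id] at h3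
    exact h3
  haveI : IsIso (b ∣_ U) := PointBlow.isIso_restrict_mono b hUD
  haveI : IsIso (ν ∣_ (b ⁻¹ᵁ U)) := PointBlow.isIso_restrict_mono ν hbU
  have hcar : BlowUp.IsEffCartierIdeal ((BlowUpLib.centre J).comap (ν ≫ b)) := by
    rw [Scheme.IdealSheafData.comap_comp]
    exact NormSeq.isEffCartier_comap ν hν hb.1
  refine ⟨X, ν ≫ b, hint₁, inferInstance, hnorm, ⟨U, hUne, ?_⟩, ⟨⟨hcar,
    fun c => ν ⁻¹ᵁ (BlowUpLib.chart J c).opensRange,
    fun c => (isAffineOpen_opensRange (BlowUpLib.chart J c)).preimage ν, fun c W z hz hW =>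
      BlowUpLib.range_subset_chart J hcar ν rfl c W hW z hz⟩⟩⟩
  rw [morphismRestrict_comp]
  infer_instance

end Groth.Agent.RatGor
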