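import Groth.Agent.RatGor.Geom

/-!
# The invertible ideal of a normalized blow-up and its sections
-/

set_option autoImplicit false
set_option linter.style.haveILetI false
set_option linter.unusedSectionVars false
set_option backward.isDefEq.respectTransparency false
set_option backward.isDefEq.respectTransparency.types false
set_option maxHeartbeats 800000

universe u

open CategoryTheory CategoryTheory.Limits AlgebraicGeometry TopologicalSpace IsLocalRing Opposite
open scoped TensorProduct

noncomputable section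

namespace Groth.Agent.RatGor

open Groth.Agent

variable {A : Type u} [CommRing A] {J : Ideal A} {X : Scheme.{u}} (f : X ⟶ Spec (CommRingCat.of A))

variable (J) in
/-- The inverse image ideal. -/
abbrev pullIdeal : X.IdealSheafData := (BlowUpLib.centre J).comap f

variable (J) in
/-- It as a module. -/
abbrev line : X.Modules := ClSub.idealMod (pullIdeal J f)

theorem strHom_res (U : X.Opens) (c : A) :
    X.presheaf.map (homOfLE (le_top : U ≤ ⊤)).op (BlowUpLib.strHom f ⊤ c) = BlowUpLib.strHom f U c := by
  show (f.appLE ⊤ ⊤ le_top ≫ X.presheaf.map (homOfLE le_top).op) _ = f.appLE ⊤ U le_top _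
  rw [Scheme.Hom.appLE_map]

theorem exists_lineSect (c : J) :
    ∃ s : Γ(line J f, ⊤), OmegaSh.idealSect (pullIdeal J f) ⊤ s = BlowUpLib.strHom f ⊤ c := by
  let K := pullIdeal J f
  refine OmegaLib.exists_idealSect_eq K ⊤ _ ?_
  refine TopCat.Sheaf.eq_of_locally_eq' K.subscheme.sheaf (fun U : X.affineOpens => K.subschemeι ⁻¹ᵁ U.1) _
    (fun U => homOfLE le_top) (fun p _ => ?_) _ _ fun U => ?_
  · obtain ⟨U, hU, hpU, -⟩ := exists_isAffineOpen_mem_and_subset (x := K.subschemeι p) (U := ⊤) trivial
    exact Opens.mem_iSup.2 ⟨⟨U, hU⟩, hpU⟩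
  · rw [map_zero]
    have h1 := congr($(K.subschemeι.naturality (homOfLE (le_top : U.1 ≤ ⊤)).op) (BlowUpLib.strHom f ⊤ c))
    refine Eq.trans h1.symm ?_
    show K.subschemeι.app U.1 (X.presheaf.map (homOfLE le_top).op (BlowUpLib.strHom f ⊤ c)) = 0
    rw [strHom_res, ← RingHom.mem_ker, K.ker_subschemeι_app, BlowUpLib.ideal_comap_centre]
    exact Ideal.mem_map_of_mem _ c.2

/-- The section of an element. -/
def lineSect (c : J) : Γ(line J f, ⊤) := (exists_lineSect f c).choose

theorem idealSect_lineSect_res (c : J) (U : X.Opens) :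
    OmegaSh.idealSect (pullIdeal J f) U ((line J f).presheaf.map (homOfLE (le_top : U ≤ ⊤)).op (lineSect f c)) =
      BlowUpLib.strHom f U c := by
  rw [OmegaLib.idealSect_map, lineSect, (exists_lineSect f c).choose_spec, strHom_res]

/-- The germ of a section of the line. -/
abbrev germL (z : X) (c : J) : ((DerSch.stalkFunctor X z).obj (line J f) : Type u) :=
  ((line J f).presheaf.germ ⊤ z trivial).hom (lineSect f c)

/-- The value of a morphism out of the structure module on a stalk. -/
theorem st_ofSect (z : X) {M : X.Modules} (s : Γ(M, ⊤)) (r : X.presheaf.stalk z) :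
    (st z (InvX.ofSect (M := M) s)).hom (RefX.unitStalk z r) =
      r • (show ((DerSch.stalkFunctor X z).obj M : Type u) from (M.presheaf.germ ⊤ z trivial).hom s) := by
  refine ((st z (InvX.ofSect (M := M) s)).hom.map_smul r _).trans (congrArg (r • ·) ?_)
  refine (DerSch.stalkFunctor_map_germ z (InvX.ofSect (M := M) s) ⊤ trivial _).trans (congrArg _ ?_)
  exact InvX.one_ofSect s

variable (hch : Charts J f)

include hch in
theorem exists_gen (z : X) : ∃ (a : J) (W : X.affineOpens), z ∈ W.1 ∧
    (pullIdeal J f).ideal W = Ideal.span {BlowUpLib.strHom f W.1 a} := by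
  obtain ⟨W, a, hz, hW⟩ := BlowUpLib.exists_local_lift J hch.cartier z
  exact ⟨a, W, hz, hW⟩

/-- Near a generator the germs are multiples of it. -/
theorem germ_gen {z : X} {a : J} {W : X.affineOpens} (hz : z ∈ W.1)
    (hW : (pullIdeal J f).ideal W = Ideal.span {BlowUpLib.strHom f W.1 a}) :
    Function.Surjective (st z (InvX.ofSect (M := line J f) (lineSect f a))) := by
  intro m
  obtain ⟨V, hzV, k₀, rfl⟩ := TopCat.Presheaf.exists_germ_eq (C := AddCommGrpCat.{u}) (line J f).presheaf (x := z) m
  obtain ⟨r, hr, hzr⟩ := W.2.exists_basicOpen_le (V := V) ⟨z, hzV⟩ hz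
  let W' : X.affineOpens := ⟨X.basicOpen r, W.2.basicOpen r⟩
  have hW' : W'.1 ≤ W.1 := X.basicOpen_le r
  let k := (line J f).presheaf.map (homOfLE hr).op k₀
  have hmem := OmegaLib.idealSect_mem (pullIdeal J f) W' k
  rw [← (pullIdeal J f).map_ideal (U := W') (V := W) hW', hW, Ideal.map_span, Set.image_singleton,
    Ideal.mem_span_singleton'] at hmem
  obtain ⟨t, ht⟩ := hmem
  have hstr : X.presheaf.map (homOfLE hW').op (BlowUpLib.strHom f W.1 a) = BlowUpLib.strHom f W'.1 a := by
    rw [← strHom_res f W.1, ← strHom_res f W'.1, ← CommRingCat.comp_apply, ← Functor.map_comp]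
    rfl
  have hk : k = t • (line J f).presheaf.map (homOfLE (le_top : W'.1 ≤ ⊤)).op (lineSect f a) :=
    OmegaLib.idealSect_injective (pullIdeal J f) W'.1 (by
      rw [OmegaLib.idealSect_smul, idealSect_lineSect_res, ← ht]
      exact congrArg (t * ·) hstr)
  refine ⟨RefX.unitStalk z (X.presheaf.germ W'.1 z hzr t), (st_ofSect z _ _).trans ?_⟩
  have h1 : ((line J f).presheaf.germ W'.1 z hzr).hom k = ((line J f).presheaf.germ V z hzV).hom k₀ :=
    (line J f).presheaf.germ_res_apply (homOfLE hr) z hzr k₀
  rw [← h1, hk]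
  erw [QCoh.germ_smul' (line J f) hzr]
  rw [(line J f).presheaf.germ_res_apply (homOfLE (le_top : W'.1 ≤ ⊤)) z hzr (lineSect f a)]

include hch in
theorem exists_st_surjective (z : X) :
    ∃ a : J, Function.Surjective (st z (InvX.ofSect (M := line J f) (lineSect f a))) := by
  obtain ⟨a, W, hz, hW⟩ := exists_gen f hch z
  exact ⟨a, germ_gen f hz hW⟩

include hch in
theorem mem_locus_of_surjective (a : J) (z : X)
    (h : Function.Surjective (st z (InvX.ofSect (M := line J f) (lineSect f a)))) : z ∈ hch.locus a := by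
  obtain ⟨a₀, W, hz, hW⟩ := exists_gen f hch z
  have hmem : BlowUpLib.strHom f W.1 a ∈ (pullIdeal J f).ideal W := by
    rw [BlowUpLib.ideal_comap_centre]
    exact Ideal.mem_map_of_mem _ a.2
  rw [hW, Ideal.mem_span_singleton'] at hmem
  obtain ⟨r, hr⟩ := hmem
  have hu : IsUnit (X.presheaf.germ W.1 z hz r) := by
    by_contra hnu
    let Lz := (DerSch.stalkFunctor X z).obj (line J f)
    have hsec : (line J f).presheaf.map (homOfLE (le_top : W.1 ≤ ⊤)).op (lineSect f a) =
        r • (line J f).presheaf.map (homOfLE (le_top : W.1 ≤ ⊤)).op (lineSect f a₀) :=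
      OmegaLib.idealSect_injective (pullIdeal J f) W.1 (by
        rw [OmegaLib.idealSect_smul, idealSect_lineSect_res, idealSect_lineSect_res, hr])
    have hgerm : germL f z a = (X.presheaf.germ W.1 z hz r) • germL f z a₀ := by
      have h1 := congrArg ((line J f).presheaf.germ W.1 z hz).hom hsec
      rw [(line J f).presheaf.germ_res_apply (homOfLE (le_top : W.1 ≤ ⊤)) z hz (lineSect f a)] at h1
      erw [QCoh.germ_smul' (line J f) hz] at h1
      rw [(line J f).presheaf.germ_res_apply (homOfLE (le_top : W.1 ≤ ⊤)) z hz (lineSect f a₀)] at h1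
      exact h1
    obtain ⟨e⟩ := H23.InvStalk.exists_stalk_equiv (H26.IdealCl.isInvertible_idealMod hch.cartier) z
    obtain ⟨w, hw⟩ := h (e.symm 1)
    obtain ⟨t, rfl⟩ := (RefX.unitStalk z).surjective w
    rw [st_ofSect] at hw
    have h2 := congrArg e hw
    rw [show (show (Lz : Type u) from ((line J f).presheaf.germ ⊤ z trivial).hom (lineSect f a)) = germL f z a from rfl,
      hgerm, map_smul, map_smul, LinearEquiv.apply_symm_apply, smul_eq_mul, smul_eq_mul, mul_left_comm] at h2
    exact hnu (IsUnit.of_mul_eq_one _ h2)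
  obtain ⟨V, hVW, hzV, hV⟩ : ∃ (V : X.affineOpens) (hVW : V.1 ≤ W.1), z ∈ V.1 ∧
      IsUnit (X.presheaf.map (homOfLE hVW).op r) :=
    ⟨⟨X.basicOpen r, W.2.basicOpen r⟩, X.basicOpen_le r, (X.mem_basicOpen r z hz).2 hu,
      X.toRingedSpace.isUnit_res_basicOpen r⟩
  refine hch.mem a V z hzV ?_
  have hstr : ∀ c : A, X.presheaf.map (homOfLE hVW).op (BlowUpLib.strHom f W.1 c) = BlowUpLib.strHom f V.1 c := fun c => by
    rw [← strHom_res f W.1, ← strHom_res f V.1, ← CommRingCat.comp_apply, ← Functor.map_comp]
    rfl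
  rw [← (pullIdeal J f).map_ideal (U := V) (V := W) hVW, hW, Ideal.map_span, Set.image_singleton]
  erw [hstr]
  have h3 := congrArg (X.presheaf.map (homOfLE hVW).op) hr
  rw [map_mul, hstr, hstr] at h3
  rw [← h3, Ideal.span_singleton_mul_left_unit hV]

/-- A map of free rank one modules is onto after tensoring only if it is onto. -/
theorem lTensor_surjective_iff {R : Type u} [CommRing R] {N O L : Type u} [AddCommGroup N] [Module R N]
    [AddCommGroup O] [Module R O] [AddCommGroup L] [Module R L] (e : N ≃ₗ[R] R) (s : O →ₗ[R] L) :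
    Function.Surjective (LinearMap.lTensor N s) ↔ Function.Surjective s := by
  let EO := (TensorProduct.congr e (LinearEquiv.refl R O)).trans (TensorProduct.lid R O)
  let EL := (TensorProduct.congr e (LinearEquiv.refl R L)).trans (TensorProduct.lid R L)
  have h : EL.toLinearMap ∘ₗ LinearMap.lTensor N s = s ∘ₗ EO.toLinearMap :=
    TensorProduct.ext' fun n o => by simp [EO, EL]
  have h' : (EL : _ → _) ∘ LinearMap.lTensor N s = s ∘ EO := funext fun x => LinearMap.congr_fun h x
  constructor
  · intro hs
    have := (Function.Surjective.comp EL.surjective hs)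
    rw [h'] at this
    exact this.of_comp
  · intro hs
    have := Function.Surjective.comp hs EO.surjective
    rw [← h'] at this
    exact (Function.Surjective.of_comp_iff' EL.bijective _).1 this

variable {N : X.Modules} (hN : PicF.IsInvertible N)
  (e : (DCoh.tensorBi.obj N).obj (line J f) ≅ Coh.structureModule X)

/-- The twisted maps to the structure module. -/
def sigmaMap (a : J) : N ⟶ Coh.structureModule X :=
  (KFlatLib.tensorUnitIso N).inv ≫ (DCoh.tensorBi.obj N).map (InvX.ofSect (M := line J f) (lineSect f a)) ≫ e.hom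

include hN in
theorem sigmaMap_surjective_iff (a : J) (z : X) :
    Function.Surjective (st z (sigmaMap f e a)) ↔
      Function.Surjective (st z (InvX.ofSect (M := line J f) (lineSect f a))) := by
  obtain ⟨eN⟩ := H23.InvStalk.exists_stalk_equiv hN z
  refine Iff.trans ?_ (lTensor_surjective_iff eN _)
  let T := KFlatLib.stalkTensorLeftIso N z
  have hb : ∀ {P Q : ModuleCat.{u} (X.presheaf.stalk z)} (g : P ⟶ Q) [IsIso g], Function.Bijective g.hom :=
    fun g _ => (ConcreteCategory.isIso_iff_bijective g).1 inferInstance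
  have h1 : st z (sigmaMap f e a) = (st z (KFlatLib.tensorUnitIso N).inv ≫ T.hom.app (Coh.structureModule X)) ≫
      (MonoidalCategory.tensorLeft ((DerSch.stalkFunctor X z).obj N)).map
        (st z (InvX.ofSect (M := line J f) (lineSect f a))) ≫ (T.inv.app (line J f) ≫ st z e.hom) := by
    have h2 := NatIso.naturality_2 T (InvX.ofSect (M := line J f) (lineSect f a))
    simp only [Category.assoc]
    rw [sigmaMap, st, Functor.map_comp, Functor.map_comp]
    congr 1
    exact (congrArg (· ≫ _) h2).symm.trans (by simp only [Category.assoc]; rfl)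
  rw [h1]
  exact ((hb (st z (KFlatLib.tensorUnitIso N).inv ≫ T.hom.app (Coh.structureModule X))).2.of_comp_iff _).trans
    (Function.Surjective.of_comp_iff' (hb (T.inv.app (line J f) ≫ st z e.hom)) _)

end Groth.Agent.RatGor
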