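import Groth.Agent.RelPC17.DimOne
import Groth.Agent.KFlatLib.Scheme.Tensor
import Groth.Agent.H23.PicMul
import Groth.Agent.H26.IdealCl
import Groth.Agent.QCoh.Support
import Groth.Agent.QCoh.HHExact
import Groth.Agent.QCoh.Tilde
import Groth.Agent.InvX.GenEpi
import Groth.Agent.AmpleVan.Vanish
import Groth.Agent.CurveDual.Main
import Groth.Agent.RefX.Reflexive
import Groth.Agent.ZClosLib.Basic
import Groth.Agent.ZClosLib.ColimSections

/-!
# A vanishing criterion for coherent modules over a morphism of relative dimension at most one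
-/

set_option autoImplicit false
set_option linter.style.haveILetI false
set_option linter.unusedSectionVars false
set_option backward.isDefEq.respectTransparency false
set_option backward.isDefEq.respectTransparency.types false
set_option maxHeartbeats 800000

universe u

open CategoryTheory CategoryTheory.Limits AlgebraicGeometry TopologicalSpace Opposite MonoidalCategory
open CategoryTheory.Abelian (Ext)
open scoped TensorProduct

noncomputable section

namespace Groth.Agent.RatGor

open Groth.Agent

variable {X : Scheme.{u}}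

/-- The stalk of a morphism, as a linear map. -/
abbrev st (z : X) {M N : X.Modules} (φ : M ⟶ N) :
    (DerSch.stalkFunctor X z).obj M ⟶ (DerSch.stalkFunctor X z).obj N :=
  (DerSch.stalkFunctor X z).map φ

/-- The stalk of the structure module. -/
abbrev stO (z : X) : ModuleCat.{u} (X.presheaf.stalk z) :=
  (DerSch.stalkFunctor X z).obj (Coh.structureModule X)

/-- Tensoring on the right with a map to the ring: onto, or into the maximal ideal. -/
theorem range_rTensor_le {R : Type u} [CommRing R] [IsLocalRing R] {N O C : Type u} [AddCommGroup N] [Module R N]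
    [AddCommGroup O] [Module R O] [AddCommGroup C] [Module R C] (e : O ≃ₗ[R] R) (s : N →ₗ[R] O)
    (hs : ¬ Function.Surjective s) :
    LinearMap.range (LinearMap.rTensor C s) ≤ IsLocalRing.maximalIdeal R • ⊤ := by
  have h : LinearMap.range (e.toLinearMap.comp s) ≤ IsLocalRing.maximalIdeal R := by
    refine IsLocalRing.le_maximalIdeal fun htop => hs fun y => ?_
    obtain ⟨x, hx⟩ := (htop ▸ Submodule.mem_top : e y ∈ LinearMap.range (e.toLinearMap.comp s))
    exact ⟨x, e.injective hx⟩
  rintro _ ⟨t, rfl⟩
  induction t using TensorProduct.induction_on with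
  | zero => rw [map_zero]; exact zero_mem _
  | tmul x c =>
    rw [LinearMap.rTensor_tmul, show s x = (e (s x)) • e.symm 1 from e.injective (by simp),
      ← TensorProduct.smul_tmul']
    exact Submodule.smul_mem_smul (h ⟨x, rfl⟩) Submodule.mem_top
  | add a b ha hb => rw [map_add]; exact add_mem ha hb

/-- Whether a twisted map is onto on a stalk. -/
theorem twist_surjective {N : X.Modules} (σ : N ⟶ Coh.structureModule X) (z : X)
    (hs : Function.Surjective (st z σ)) (C : X.Modules) :
    Function.Surjective (st z ((DCoh.tensorBi.map σ).app C)) := by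
  let e := KFlatLib.stalkTensorRightIso C z
  have h1 : Function.Surjective (LinearMap.rTensor ((DerSch.stalkFunctor X z).obj C : Type u) (st z σ).hom) :=
    LinearMap.rTensor_surjective _ hs
  intro y
  obtain ⟨x, hx⟩ := h1 ((e.hom.app (Coh.structureModule X)).hom y)
  refine ⟨(e.inv.app N).hom x, ?_⟩
  have h2 := LinearMap.congr_fun (congrArg ModuleCat.Hom.hom (e.inv.naturality σ)) x
  exact h2.symm.trans ((congrArg (e.inv.app (Coh.structureModule X)).hom hx).trans
    (LinearMap.congr_fun (congrArg ModuleCat.Hom.hom (e.hom_inv_id_app (Coh.structureModule X))) y))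

/-- Where the twisted map is not onto it lands in the maximal ideal. -/
theorem subsingleton_of_twist_surjective {N : X.Modules} (σ : N ⟶ Coh.structureModule X) (z : X)
    (hs : ¬ Function.Surjective (st z σ)) (C : X.Modules) (hC : Coh.IsCoh C)
    (h : Function.Surjective (st z ((DCoh.tensorBi.map σ).app C))) :
    Subsingleton ((DerSch.stalkFunctor X z).obj C) := by
  let R := X.presheaf.stalk z
  let Cz := (DerSch.stalkFunctor X z).obj C
  let e := KFlatLib.stalkTensorRightIso C z
  have h1 : Function.Surjective (LinearMap.rTensor (Cz : Type u) (st z σ).hom) := by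
    intro y
    obtain ⟨x, hx⟩ := h ((e.inv.app (Coh.structureModule X)).hom y)
    refine ⟨(e.hom.app N).hom x, ?_⟩
    have h2 := LinearMap.congr_fun (congrArg ModuleCat.Hom.hom (e.hom.naturality σ)) x
    exact h2.symm.trans ((congrArg (e.hom.app (Coh.structureModule X)).hom hx).trans
      (LinearMap.congr_fun (congrArg ModuleCat.Hom.hom (e.inv_hom_id_app (Coh.structureModule X))) y))
  let eO : (stO z : Type u) ≃ₗ[R] R := (RefX.unitStalk z).symm
  have h2 : (⊤ : Submodule R ((stO z : Type u) ⊗[R] (Cz : Type u))) ≤ IsLocalRing.maximalIdeal R • ⊤ := by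
    intro y _
    obtain ⟨x, rfl⟩ := h1 y
    exact range_rTensor_le eO (st z σ).hom hs ⟨x, rfl⟩
  let E : (stO z : Type u) ⊗[R] (Cz : Type u) ≃ₗ[R] (Cz : Type u) :=
    (TensorProduct.congr eO (LinearEquiv.refl R _)).trans (TensorProduct.lid R _)
  have h3 : (⊤ : Submodule R (Cz : Type u)) ≤ IsLocalRing.maximalIdeal R • ⊤ := by
    have h5 : Submodule.map E.toLinearMap (⊤ : Submodule R ((stO z : Type u) ⊗[R] (Cz : Type u))) ≤
        Submodule.map E.toLinearMap (IsLocalRing.maximalIdeal R • (⊤ : Submodule R ((stO z : Type u) ⊗[R] (Cz : Type u)))) :=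
      Submodule.map_mono h2
    rwa [Submodule.map_smul'', Submodule.map_top, LinearEquiv.range] at h5
  haveI : Module.Finite R (Cz : Type u) := QCoh.finite_stalk_of_isFT hC.1 hC.2 z
  have h4 := Submodule.eq_bot_of_le_smul_of_le_jacobson_bot _ _ Module.Finite.fg_top h3
    (IsLocalRing.maximalIdeal_le_jacobson _)
  exact Submodule.subsingleton_iff R |>.1 (subsingleton_of_bot_eq_top h4.symm)

/-- A module whose stalks vanish is zero. -/
theorem isZero_of_stalks {C : X.Modules} (h : ∀ z : X, Subsingleton (C.presheaf.stalk z)) : IsZero C := by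
  refine (IsZero.iff_id_eq_zero C).2 (Scheme.Modules.hom_ext _ _ fun V => ?_)
  ext s
  exact ZClosLib.section_ext C _ _ fun y _ => @Subsingleton.elim _ (h y) _ _

/-- A module supported in an affine open with no global sections vanishes. -/
theorem subsingleton_stalk_of_affine {C : X.Modules} (hC : Coh.IsCoh C) {Ω : X.Opens} (hΩ : IsAffineOpen Ω)
    (hB : CohB1.support C ⊆ Ω) (hcl : IsClosed (CohB1.support C)) [Subsingleton Γ(C, ⊤)] (z : X) :
    Subsingleton (C.presheaf.stalk z) := by
  by_contra hz
  refine hz (subsingleton_of_forall_eq 0 fun m => ?_)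
  letI := QCoh.stalkModule C (hB hz)
  haveI := QCoh.isLocalizedModule_germLin hC.1 hΩ (hB hz)
  obtain ⟨⟨t, s⟩, hts⟩ := IsLocalizedModule.surj (hΩ.primeIdealOf ⟨z, hB hz⟩).asIdeal.primeCompl
    (QCoh.germLin C (hB hz)) m
  have ht : t = 0 := by
    let O : X.Opens := ⟨(CohB1.support C)ᶜ, hcl.isOpen_compl⟩
    have h0 : ∀ (W : X.Opens), W ≤ O → ∀ a : Γ(C, W), a = 0 := fun W hW a =>
      ZClosLib.section_ext C _ _ fun y hy => @Subsingleton.elim _ (not_not.1 (hW hy)) _ _
    obtain ⟨g, hg, -⟩ := AModX.existsUnique_glue (M := C) (V := ⊤) (fun b : ULift.{u} Bool => bif b.down then Ω else O)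
      (fun _ => le_top) (fun p _ => by
        by_cases hp : p ∈ CohB1.support C
        · exact ⟨⟨true⟩, hB hp⟩
        · exact ⟨⟨false⟩, hp⟩)
      (fun b => match b with | ⟨true⟩ => t | ⟨false⟩ => 0) fun a b => by
        rcases a with ⟨_ | _⟩ <;> rcases b with ⟨_ | _⟩
        · rfl
        · exact (h0 _ inf_le_left _).trans (h0 _ inf_le_left _).symm
        · exact (h0 _ inf_le_right _).trans (h0 _ inf_le_right _).symm
        · rfl
    have h1 := hg ⟨true⟩
    rw [Subsingleton.elim g 0, map_zero] at h1
    exact h1.symm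
  rw [ht, map_zero] at hts
  exact ((IsLocalizedModule.map_units (QCoh.germLin C (hB hz)) s) |> fun hu =>
    ((Module.End.isUnit_iff _).1 hu).1 (hts.trans (map_zero _).symm))

variable {Y : Scheme.{u}} (f : X ⟶ Y) [IsProper f] [IsAffine Y]
  (hd : ∀ y : Y, topologicalKrullDim ↥(f.fiber y) ≤ (1 : ℕ))

include hd in
/-- A coherent module with no global sections and whose twist down has no first cohomology vanishes. -/
theorem isZero_of_twist [IsLocallyNoetherian X] [NoetherianSpace X] {N : X.Modules} (hN : PicF.IsInvertible N)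
    {ι : Type u} (σ : ι → (N ⟶ Coh.structureModule X)) (Ω : ι → X.Opens) (hΩ : ∀ a, IsAffineOpen (Ω a))
    (hgen : ∀ z : X, ∃ a, Function.Surjective (st z (σ a)))
    (hloc : ∀ (a : ι) (z : X), Function.Surjective (st z (σ a)) → z ∈ Ω a)
    (C : X.Modules) (hC : Coh.IsCoh C) (h0 : Subsingleton Γ(C, ⊤))
    (h1 : Subsingleton (Coh.HH X ((DCoh.tensorBi.obj N).obj C) 1)) : IsZero C := by
  haveI := H26.IdealCl.isEquivalence_tensor hN
  suffices h : ∀ (S : Closeds X) (C : X.Modules), Coh.IsCoh C → CohB1.support C ⊆ S → Subsingleton Γ(C, ⊤) →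
      Subsingleton (Coh.HH X ((DCoh.tensorBi.obj N).obj C) 1) → ∀ z : X, Subsingleton (C.presheaf.stalk z) from
    isZero_of_stalks (h ⊤ C hC (fun _ _ => trivial) h0 h1)
  intro S
  induction S using WellFoundedLT.induction with
  | _ S ih =>
    intro C hC hCS h0 h1 z
    have hcl := QCoh.isClosed_support_of_isFT hC.1 hC.2
    by_contra hz
    obtain ⟨a, ha⟩ := hgen z
    let C1 := (DCoh.tensorBi.obj (Coh.structureModule X)).obj C
    let u : C1 ≅ C := (H23.PicMul.comm (Coh.structureModule X) C).some ≪≫ (H23.PicMul.unit C).some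
    let τ : (DCoh.tensorBi.obj N).obj C ⟶ C1 := (DCoh.tensorBi.map (σ a)).app C
    have hNC : Coh.IsQCoh ((DCoh.tensorBi.obj N).obj C) := KFlatLib.isQCoh_tensor (CurveDeg.isCoh_of_isInvertible hN).1 hC.1
    have hC1 : Coh.IsCoh C1 := QCoh.isCoh_of_epi u.inv hC ((QCoh.isQCoh_iff_iso u.symm).1 hC.1)
    let C' := cokernel τ
    let π : C1 ⟶ C' := cokernel.π τ
    have hC'q : Coh.IsQCoh C' := QCoh.isQCoh_cokernel hNC hC1.1 τ
    have hC' : Coh.IsCoh C' := QCoh.isCoh_of_epi π hC1 hC'q
    have hstalk : ∀ y : X, Subsingleton (C.presheaf.stalk y) → Subsingleton (C'.presheaf.stalk y) := fun y hy => by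
      have hs : Function.Surjective (st y (u.inv ≫ π)) :=
        (ModuleCat.epi_iff_surjective _).1 (inferInstance : Epi (st y (u.inv ≫ π)))
      exact @Function.Surjective.subsingleton _ _ _ hy hs
    have hz' : Subsingleton (C'.presheaf.stalk z) := subsingleton_of_forall_eq 0 fun m => by
      obtain ⟨v, rfl⟩ := (ModuleCat.epi_iff_surjective (st z π)).1 inferInstance m
      obtain ⟨w, rfl⟩ := twist_surjective (σ a) z ha C v
      have h := congr($((DerSch.stalkFunctor X z).congr_map (cokernel.condition τ)) w)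
      rw [Functor.map_zero] at h
      rw [Functor.map_comp] at h
      exact h
    let S' : Closeds X := ⟨CohB1.support C', QCoh.isClosed_support_of_isFT hC'.1 hC'.2⟩
    have hlt : S' < S := by
      refine lt_of_le_of_ne (fun y hy => hCS fun h => hy (hstalk y h)) fun he => ?_
      have : z ∈ (S' : Set X) := by
        rw [he]
        exact hCS hz
      exact this hz'
    let K := kernel π
    let ε : (DCoh.tensorBi.obj N).obj C ⟶ K := Abelian.factorThruImage τ
    haveI : Epi ε := inferInstanceAs (Epi (Abelian.factorThruImage τ))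
    have hK : Subsingleton (Coh.HH X K 1) :=
      (RelPC17.DimOne.hmap_surjective f hd ε hNC (QCoh.isQCoh_kernel hC1.1 hC'q π)).subsingleton
    let Sh : ShortComplex X.Modules := ShortComplex.mk (kernel.ι π) π (kernel.condition π)
    have hSh : Sh.ShortExact := { exact := ShortComplex.exact_of_f_is_kernel _ (kernelIsKernel π) }
    haveI hC10 : Subsingleton Γ(C1, ⊤) :=
      ((ConcreteCategory.bijective_of_isIso (u.hom.app ⊤)).injective).subsingleton
    have h0' : Subsingleton Γ(C', ⊤) := (QCoh.app_top_surjective_of_HH_one hSh hK).subsingleton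
    have h1' : Subsingleton (Coh.HH X ((DCoh.tensorBi.obj N).obj C') 1) :=
      haveI := h1
      @Function.Surjective.subsingleton _ _ _ h1
        (RelPC17.DimOne.hmap_surjective f hd ((DCoh.tensorBi.obj N).map (u.inv ≫ π)) hNC
          (KFlatLib.isQCoh_tensor (CurveDeg.isCoh_of_isInvertible hN).1 hC'q))
    have hall := ih S' hlt C' hC' le_rfl h0' h1'
    haveI : Epi τ := Preadditive.epi_of_isZero_cokernel τ (isZero_of_stalks hall)
    have hB : CohB1.support C ⊆ Ω a := fun y hy => hloc a y (by
      by_contra hns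
      refine hy (subsingleton_of_twist_surjective (σ a) y hns C hC ?_)
      exact (ModuleCat.epi_iff_surjective _).1 (inferInstance : Epi (st y τ)))
    exact hz (subsingleton_stalk_of_affine hC (hΩ a) hB hcl z)

/-- First cohomology vanishes when extensions of the twisted unit vanish. -/
theorem subsingleton_HH_one_of_ext [HasExt.{u} X.Modules] {N L : X.Modules} (hN : PicF.IsInvertible N)
    (hL : PicF.IsInvertible L) (F : X.Modules)
    (e : (DCoh.tensorBi.obj L).obj N ≅ Coh.structureModule X) (h : Subsingleton (Ext.{u} L F 1)) :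
    Subsingleton (Coh.HH X ((DCoh.tensorBi.obj N).obj F) 1) := by
  haveI := H26.IdealCl.isEquivalence_tensor hL
  let T := DCoh.tensorBi.obj L
  haveI : PreservesFiniteLimits T := inferInstance
  haveI : PreservesFiniteColimits T := inferInstance
  haveI : T.Additive := Functor.additive_of_preserves_binary_products T
  let G := (DCoh.tensorBi.obj N).obj F
  let uO : L ≅ T.obj (Coh.structureModule X) := (H23.PicMul.unit L).some.symm
  let uG : T.obj G ≅ F := (CurveRR.cancelIso e).app F
  suffices hx : ∀ x : Ext.{u} (Coh.structureModule X) G 1, x = 0 by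
    refine subsingleton_of_forall_eq 0 fun y => ?_
    obtain ⟨x, rfl⟩ := (CurveDual.bijective_extH G).2 y
    rw [hx x, map_zero]
  intro x
  let S := CurveDual.injSeq G
  have hS := CurveDual.injSeq_shortExact G
  obtain ⟨g₀, rfl⟩ := Ext.covariant_sequence_exact₁ (Coh.structureModule X) hS x (Ext.eq_zero_of_injective _) (zero_add 1)
  obtain ⟨g, rfl⟩ := (Ext.mk₀_bijective _ _).2 g₀
  have hTS := hS.map_of_exact T
  haveI hT1 : Subsingleton (Ext.{u} L (S.map T).X₁ 1) := subsingleton_of_forall_eq 0 fun y => by
    have h2 : y.comp (Ext.mk₀ uG.hom) (add_zero 1) = 0 := Subsingleton.elim _ _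
    have h3 := congrArg (fun z : Ext.{u} L F 1 => z.comp (Ext.mk₀ uG.inv) (add_zero 1)) h2
    simpa using h3
  obtain ⟨w, hw⟩ := Ext.covariant_sequence_exact₃ L hTS (Ext.mk₀ (uO.hom ≫ T.map g)) (zero_add 1)
    (Subsingleton.elim _ _)
  obtain ⟨w', rfl⟩ := (Ext.mk₀_bijective _ _).2 w
  rw [Ext.mk₀_comp_mk₀] at hw
  replace hw := (Ext.mk₀_bijective _ _).1 hw
  obtain ⟨g', hg'⟩ := T.map_surjective (uO.inv ≫ w')
  have hg : g = g' ≫ S.g := T.map_injective (by
    rw [T.map_comp, hg', ← cancel_epi uO.hom, Category.assoc, Iso.hom_inv_id_assoc]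
    exact hw.symm)
  rw [hg, ← Ext.mk₀_comp_mk₀, Ext.comp_assoc_of_second_deg_zero, hS.comp_extClass, Ext.comp_zero]

end Groth.Agent.RatGor
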